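import Cfsg.Agent.Lib.Classical.SLClassBound.Tail

/-!
The bounds for the class number of `SL n q`.
-/

set_option autoImplicit false
set_option linter.style.haveILetI false
set_option linter.unusedSectionVars false

namespace CfsgLib.Classical.SLClassBound

open Polynomial CfsgLib.Classical.GLClassBound

variable {F : Type*} [Field F] [Fintype F]

theorem card_roots_le {α : Type*} (g : α → F) (hg : Function.Injective g) {k : ℕ} (hk : 1 ≤ k)
    (h : ∀ a, g a ^ k = 1) : Nat.card α ≤ k ∧ Nat.card α ≤ Fintype.card F - 1 := by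
  classical
  have hne : ∀ a, g a ≠ 0 := fun a e => by
    have := h a
    rw [e, zero_pow (by omega)] at this
    exact zero_ne_one this
  constructor
  · let s := (nthRoots k (1 : F)).toFinset
    refine (Nat.card_le_card_of_injective (fun a => (⟨g a, by
      rw [Multiset.mem_toFinset, mem_nthRoots (by omega)]; exact h a⟩ : s)) fun a b e =>
        hg (congrArg Subtype.val e)).trans ?_
    rw [Nat.card_eq_fintype_card, Fintype.card_coe]
    exact (Multiset.toFinset_card_le _).trans (card_nthRoots k 1)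
  · refine (Nat.card_le_card_of_injective (fun a => Units.mk0 (g a) (hne a)) fun a b e => hg (congrArg Units.val e)).trans ?_
    rw [Nat.card_eq_fintype_card, Fintype.card_units]

theorem sum_wt_le {α : Type*} [Fintype α] (f : α → ℕ) {b c : ℕ} (hb : ∀ a, f a ≤ b) (hc : Nat.card α ≤ c) :
    ∑ a, f a ≤ c * b := by
  refine (Finset.sum_le_card_nsmul _ _ _ fun a _ => hb a).trans ?_
  rw [smul_eq_mul, Finset.card_univ, ← Nat.card_eq_fintype_card]
  exact Nat.mul_le_mul_right b hc

/-- A tuple of determinant one supported at one exponent with a linear polynomial. -/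
theorem linear_facts {n : ℕ} (t : T1 F n) (j : Fin n) (hj : (t.1 j).natDegree = 1)
    (h : ∀ k, k ≠ j → t.1 k = 1) :
    t.1 j = X + C ((t.1 j).coeff 0) ∧ mu (t.1 j) ^ (j.1 + 1) = 1 ∧ mu (t.1 j) = -(t.1 j).coeff 0 := by
  refine ⟨(t.2.1.1 j).1.eq_X_add_C hj, ?_, ?_⟩
  · have h1 := t.2.2
    rw [tdet, Finset.prod_eq_single j (fun k _ hk => by rw [h k hk]; simp [mu]) (fun h => absurd (Finset.mem_univ j) h)] at h1
    exact h1
  · rw [mu, hj]; ring

theorem small_tail_shape {n : ℕ} [NeZero n] (hn : n ≤ 3) (t : TB F n) :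
    ∃ j : Fin n, j.1 + 1 = n ∧ (t.1.1 j).natDegree = 1 ∧ ∀ k, k ≠ j → t.1.1 k = 1 := by
  have hsum := t.1.2.1.2
  have h0 : (t.1.1 0).natDegree = 0 := by have := t.2; omega
  obtain ⟨n, rfl⟩ : ∃ m, n = m + 1 := ⟨n - 1, by have := NeZero.pos n; omega⟩
  rcases (show n = 0 ∨ n = 1 ∨ n = 2 by omega) with rfl | rfl | rfl
  · simp [h0] at hsum
  · refine ⟨1, rfl, ?_, fun k hk => (tb_tail F 2 t).2 k ?_⟩
    · simp [Fin.sum_univ_two, h0] at hsum; omega
    · fin_cases k <;> simp_all
  · simp [Fin.sum_univ_three, h0] at hsum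
    refine ⟨2, rfl, by omega, fun k hk => ?_⟩
    fin_cases k
    · exact (tb_tail F 3 t).2 _ rfl
    · exact eq_one_of_degree_zero (t.1.2.1.1 1).1 (show (t.1.1 (1 : Fin 3)).natDegree = 0 by omega)
    · simp at hk

theorem small_tail_bound (n : ℕ) [NeZero n] (hn : n ≤ 3) [Fintype (TB F n)] :
    ∑ t : TB F n, wt t.1.1 ≤ min n (Fintype.card F - 1) * min n (Fintype.card F - 1) := by
  choose j hj1 hj2 hj3 using fun t : TB F n => small_tail_shape hn t
  have hjj : ∀ t t', j t = j t' := fun t t' => Fin.ext (by have := hj1 t; have := hj1 t'; omega)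
  have hinj : Function.Injective fun t : TB F n => mu (t.1.1 (j t)) := fun t t' e => by
    obtain ⟨e1, -, e1'⟩ := linear_facts t.1 (j t) (hj2 t) (hj3 t)
    obtain ⟨e2, -, e2'⟩ := linear_facts t'.1 (j t') (hj2 t') (hj3 t')
    simp only [e1', e2', neg_inj] at e
    refine Subtype.ext (Subtype.ext (funext fun k => ?_))
    rcases eq_or_ne k (j t) with rfl | hk
    · rw [e1, hjj t t', e2]
      rw [hjj t t'] at e
      rw [e]
    · rw [hj3 t k hk, hj3 t' k (hjj t t' ▸ hk)]
  have hc : Nat.card (TB F n) ≤ min n (Fintype.card F - 1) := by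
    obtain ⟨h1, h2⟩ := card_roots_le _ hinj (k := n) (NeZero.pos n) fun t => by
      have := (linear_facts t.1 (j t) (hj2 t) (hj3 t)).2.1
      rwa [hj1] at this
    exact le_min h1 h2
  refine sum_wt_le _ (fun t => le_min ?_ (wt_le_units _)) hc
  have := wt_le_exp t.1.1 (j t) (by rw [hj2 t])
  rwa [hj1] at this

theorem four_tail_shape (t : TB F 4) :
    ((t.1.1 3).natDegree = 1 ∧ ∀ k, k ≠ 3 → t.1.1 k = 1) ∨ ((t.1.1 1).natDegree = 2 ∧ ∀ k, k ≠ 1 → t.1.1 k = 1) := by
  have hsum := t.1.2.1.2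
  have h0 : (t.1.1 0).natDegree = 0 := by have := t.2; omega
  simp [Fin.sum_univ_four, h0] at hsum
  rcases (show ((t.1.1 1).natDegree = 0 ∧ (t.1.1 2).natDegree = 0 ∧ (t.1.1 3).natDegree = 1) ∨
      ((t.1.1 1).natDegree = 2 ∧ (t.1.1 2).natDegree = 0 ∧ (t.1.1 3).natDegree = 0) by omega) with ⟨a, b, c⟩ | ⟨a, b, c⟩
  · refine Or.inl ⟨c, fun k hk => eq_one_of_degree_zero (t.1.2.1.1 k).1 ?_⟩
    fin_cases k <;> simp_all
  · refine Or.inr ⟨a, fun k hk => eq_one_of_degree_zero (t.1.2.1.1 k).1 ?_⟩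
    fin_cases k <;> simp_all

theorem four_tail_bound [Fintype (TB F 4)] :
    ∑ t : TB F 4, wt t.1.1 ≤ min 4 (Fintype.card F - 1) * min 4 (Fintype.card F - 1) +
      (min 2 (Fintype.card F - 1) * Fintype.card F) * min 2 (Fintype.card F - 1) := by
  classical
  rw [← Fintype.sum_subtype_add_sum_subtype (fun t : TB F 4 => (t.1.1 3).natDegree = 1) fun t => wt t.1.1]
  have hA : ∀ t : {t : TB F 4 // (t.1.1 3).natDegree = 1}, ∀ k, k ≠ 3 → t.1.1.1 k = 1 := fun t => by
    rcases four_tail_shape t.1 with ⟨-, h⟩ | ⟨-, h⟩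
    · exact h
    · have := t.2
      rw [h 3 (by decide), natDegree_one] at this
      omega
  have hB : ∀ t : {t : TB F 4 // ¬ (t.1.1 3).natDegree = 1},
      (t.1.1.1 1).natDegree = 2 ∧ ∀ k, k ≠ 1 → t.1.1.1 k = 1 := fun t =>
    (four_tail_shape t.1).resolve_left fun h => t.2 h.1
  refine Nat.add_le_add (sum_wt_le _ (fun t => le_min (wt_le_exp t.1.1.1 3 (by rw [t.2])) (wt_le_units _)) ?_)
    (sum_wt_le _ (fun t => le_min (wt_le_exp t.1.1.1 1 (by rw [(hB t).1]; norm_num)) (wt_le_units _)) ?_)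
  · obtain ⟨h1, h2⟩ := card_roots_le (k := 4) (fun t : {t : TB F 4 // (t.1.1 3).natDegree = 1} => mu (t.1.1.1 3))
      (fun t t' e => by
        obtain ⟨e1, -, e1'⟩ := linear_facts t.1.1 3 t.2 (hA t)
        obtain ⟨e2, -, e2'⟩ := linear_facts t'.1.1 3 t'.2 (hA t')
        simp only [e1', e2', neg_inj] at e
        refine Subtype.ext (Subtype.ext (Subtype.ext (funext fun k => ?_)))
        rcases eq_or_ne k 3 with rfl | hk
        · rw [e1, e2, e]
        · rw [hA t k hk, hA t' k hk])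
      (by norm_num) fun t => (linear_facts t.1.1 3 t.2 (hA t)).2.1
    exact le_min h1 h2
  · have hv : ∀ t : {t : TB F 4 // ¬ (t.1.1 3).natDegree = 1}, (t.1.1.1 1).coeff 0 ^ 2 = 1 := fun t => by
      have h1 := t.1.1.2.2
      rw [tdet, Finset.prod_eq_single (1 : Fin 4) (fun k _ hk => by rw [(hB t).2 k hk]; simp [mu])
        (fun h => absurd (Finset.mem_univ _) h), mu, (hB t).1] at h1
      simpa using h1
    let g : {t : TB F 4 // ¬ (t.1.1 3).natDegree = 1} → {c : F // c ^ 2 = 1} × F :=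
      fun t => (⟨_, hv t⟩, (t.1.1.1 1).coeff 1)
    have hg : Function.Injective g := fun t t' e => by
      refine Subtype.ext (Subtype.ext (Subtype.ext (funext fun k => ?_)))
      rcases eq_or_ne k 1 with rfl | hk
      · ext i
        rcases i with _ | _ | _ | i
        · exact congrArg (fun z => z.1.1) e
        · exact congrArg (fun z => z.2) e
        · have h1 := (t.1.1.2.1.1 1).1.coeff_natDegree
          have h2 := (t'.1.1.2.1.1 1).1.coeff_natDegree
          rw [(hB t).1] at h1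
          rw [(hB t').1] at h2
          rw [h1, h2]
        · rw [coeff_eq_zero_of_natDegree_lt (by rw [(hB t).1]; omega),
            coeff_eq_zero_of_natDegree_lt (by rw [(hB t').1]; omega)]
      · rw [(hB t).2 k hk, (hB t').2 k hk]
    refine (Nat.card_le_card_of_injective g hg).trans ?_
    rw [Nat.card_prod, Nat.card_eq_fintype_card (α := F)]
    obtain ⟨h1, h2⟩ := card_roots_le (fun c : {c : F // c ^ 2 = 1} => c.1) Subtype.val_injective one_le_two fun c => c.2
    exact Nat.mul_le_mul_right _ (le_min h1 h2)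

/-- `k (SL n q) ≤ q ^ (n - 1) + 3 q ^ (n - 2)` for `n ≥ 3`, and `k (SL 2 q) ≤ q + 4`. -/
theorem card_sl_bounds (n : ℕ) (hn : 2 ≤ n) :
    (n = 2 → Nat.card (ConjClasses (Matrix.SpecialLinearGroup (Fin n) F)) ≤
      Fintype.card F + min 2 (Fintype.card F - 1) * min 2 (Fintype.card F - 1)) ∧
    (3 ≤ n → Nat.card (ConjClasses (Matrix.SpecialLinearGroup (Fin n) F)) ≤
      Fintype.card F ^ (n - 1) + 3 * Fintype.card F ^ (n - 2)) := by
  classical
  have : NeZero n := ⟨by omega⟩
  letI := Fintype.ofFinite (TB F n)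
  have hk := card_sl_le_split F n
  set Q := Fintype.card F with hQ
  have hq : 2 ≤ Q := Fintype.one_lt_card
  have t0 := card_tail_zero (F := F) n
  have t1 := card_tail_one (F := F) n
  have t2 := card_tail_small (F := F) n
  constructor
  · rintro rfl
    have hA := card_ta_le F 2
    have hB := small_tail_bound (F := F) 2 (by norm_num)
    simp only [Finset.sum_range_succ, Finset.sum_range_zero, pow_zero, pow_one, zero_add, one_mul,
      show 2 - 1 - 0 = 1 from rfl, show 2 - 1 - 1 = 0 from rfl, ← hQ] at hA hB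
    rw [t1, zero_add] at hA
    have := Nat.mul_le_mul_left Q t0
    omega
  intro hn3
  rcases (show n = 3 ∨ n = 4 ∨ 5 ≤ n by omega) with rfl | rfl | hn5
  · have hA := card_ta_le F 3
    have hB := small_tail_bound (F := F) 3 le_rfl
    simp only [Finset.sum_range_succ, Finset.sum_range_zero, pow_zero, pow_one, zero_add, one_mul,
      show 3 - 1 - 0 = 2 from rfl, show 3 - 1 - 1 = 1 from rfl, show 3 - 1 - 2 = 0 from rfl, ← hQ] at hA hB
    rw [t1, mul_zero, add_zero] at hA
    have h0 := Nat.mul_le_mul_left (Q ^ 2) t0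
    have hm : min 3 (Q - 1) * min 3 (Q - 1) ≤ 2 * Q + 1 := by
      rcases (show Q = 2 ∨ Q = 3 ∨ 4 ≤ Q by omega) with h | h | h
      · simp [h]
      · simp [h]
      · rw [min_eq_left (by omega)]; omega
    show _ ≤ Q ^ 2 + 3 * Q ^ 1
    rw [pow_one]
    omega
  · have hA := card_ta_le F 4
    have hB := four_tail_bound (F := F)
    simp only [Finset.sum_range_succ, Finset.sum_range_zero, pow_zero, pow_one, zero_add, one_mul,
      show 4 - 1 - 0 = 3 from rfl, show 4 - 1 - 1 = 2 from rfl, show 4 - 1 - 2 = 1 from rfl,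
      show 4 - 1 - 3 = 0 from rfl, ← hQ] at hA hB
    rw [t1, mul_zero, add_zero] at hA
    have h0 := Nat.mul_le_mul_left (Q ^ 3) t0
    have h2 := Nat.mul_le_mul_left Q t2.1
    have e2 : Q * (Q - 1) + Q = Q ^ 2 := by
      obtain ⟨r, hr⟩ : ∃ r, Q = r + 1 := ⟨Q - 1, by omega⟩
      rw [hr, Nat.add_sub_cancel]; ring
    have hm : min 4 (Q - 1) * min 4 (Q - 1) + min 2 (Q - 1) * Q * min 2 (Q - 1) ≤ 2 * Q ^ 2 + 1 := by
      rcases (show Q = 2 ∨ Q = 3 ∨ Q = 4 ∨ 5 ≤ Q by omega) with h | h | h | h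
      · simp [h]
      · simp [h]
      · simp [h]
      · rw [min_eq_left (by omega), min_eq_left (by omega : 2 ≤ Q - 1)]; nlinarith
    show _ ≤ Q ^ 3 + 3 * Q ^ 2
    have := t2.2
    rw [← hQ] at *
    omega
  · have h1 := card_ta_units F n
    have h2 : ∑ t : TB F n, wt t.1.1 ≤ Nat.card (Tail F n n) * (Q - 1) :=
      sum_wt_le _ (fun t => wt_le_units _) (card_tb_le F n)
    have h3 := card_tail_large (F := F) n n hn5
    rw [← hQ] at h1 h3
    obtain ⟨r, hr⟩ : ∃ r, Q = r + 2 := ⟨Q - 2, by omega⟩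
    obtain ⟨m, rfl⟩ : ∃ m, n = m + 5 := ⟨n - 5, by omega⟩
    rw [hr] at h1 h2 h3 ⊢
    rw [show r + 2 - 1 = r + 1 by omega] at h1 h2
    rw [show m + 5 - 1 = m + 4 by omega, show m + 5 - 2 = m + 3 by omega]
    rw [show m + 5 - 3 = m + 2 by omega] at h3
    set a := Nat.card (Tail F (m + 5) (m + 5))
    set A := Nat.card (TA F (m + 5))
    set K := Nat.card (ConjClasses (Matrix.SpecialLinearGroup (Fin (m + 5)) F))
    refine Nat.le_of_mul_le_mul_left ?_ (Nat.succ_pos r)
    calc (r + 1) * K ≤ (r + 1) * (A + a * (r + 1)) := Nat.mul_le_mul_left _ (hk.trans (Nat.add_le_add_left h2 _))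
      _ = ((r + 1) * A + a) + r * (r + 2) * a := by ring
      _ ≤ (r + 2) ^ (m + 5) + r * (r + 2) * (2 * (r + 2) ^ (m + 2)) :=
          Nat.add_le_add h1 (Nat.mul_le_mul_left _ h3)
      _ = (r + 2) ^ (m + 5) + 2 * r * (r + 2) ^ (m + 3) := by ring
      _ ≤ (r + 2) ^ (m + 5) + (2 * r + 1) * (r + 2) ^ (m + 3) :=
          Nat.add_le_add_left (Nat.mul_le_mul_right _ (Nat.le_succ _)) _
      _ = (r + 1) * ((r + 2) ^ (m + 4) + 3 * (r + 2) ^ (m + 3)) := by ring

end CfsgLib.Classical.SLClassBound
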