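import Cfsg.Agent.Lib.Classical.SLClassBound.Twist
import Cfsg.Agent.Lib.Classical.GLClassBound

/-!
The tuple of polynomials of a class, with its determinant and the determinants of the centralizer.
-/

set_option autoImplicit false
set_option linter.style.haveILetI false

namespace CfsgLib.Classical.SLClassBound

open Polynomial UniqueFactorizationMonoid CfsgLib.Classical.GLClassBound

variable {F : Type*} [Field F]

/-- The signed constant coefficient. -/
noncomputable def mu (f : F[X]) : F := (-1) ^ f.natDegree * f.coeff 0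

/-- The determinant read off a tuple. -/
noncomputable def tdet {E : ℕ} (h : Fin E → F[X]) : F := ∏ k : Fin E, mu (h k) ^ (k.1 + 1)

theorem mu_prod {α : Type*} (s : Finset α) (f : α → F[X]) (hf : ∀ i ∈ s, f i ≠ 0) :
    mu (∏ i ∈ s, f i) = ∏ i ∈ s, mu (f i) := by
  simp only [mu]
  rw [natDegree_prod _ _ hf, coeff_zero_prod, Finset.prod_mul_distrib, Finset.prod_pow_eq_pow_sum]

theorem mu_ne_zero {f : F[X]} (hf : f.coeff 0 ≠ 0) : mu f ≠ 0 :=
  mul_ne_zero (pow_ne_zero _ (neg_ne_zero.mpr one_ne_zero)) hf

variable [Fintype F]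

/-- Each class has a tuple, which determines it, its determinant, and some determinants of its centralizer. -/
theorem exists_classMap (n : ℕ) :
    ∃ h : ConjClasses (GL (Fin n) F) → Fin n → F[X], Function.Injective h ∧ ∀ c, IsTuple n n (h c) ∧
      tdet (h c) = ((c.out : GL (Fin n) F) : Matrix (Fin n) (Fin n) F).det ∧
      (∀ k, 1 ≤ (h c k).natDegree → ∀ x : F, x ≠ 0 →
        ∃ z : GL (Fin n) F, Commute z c.out ∧ (z : Matrix (Fin n) (Fin n) F).det = x ^ (k.1 + 1)) ∧
      (∀ (ζ : F), ζ ≠ 0 → ∀ W : GL (Fin n) F,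
        (W : Matrix (Fin n) (Fin n) F) * ((c.out : GL (Fin n) F) : Matrix (Fin n) (Fin n) F) =
          ζ • (((c.out : GL (Fin n) F) : Matrix (Fin n) (Fin n) F) * (W : Matrix (Fin n) (Fin n) F)) →
        ∀ k i, (h c k).coeff i ≠ 0 → ζ ^ i = ζ ^ (h c k).natDegree) ∧
      ∃ (ι : Type) (_ : Fintype ι) (P : ι → F[X]) (e : ι → ℕ) (E : (Fin n → F) ≃ₗ[F] ∀ i, Cyc (P i ^ e i)),
        (∀ i, (P i).Monic ∧ Irreducible (P i) ∧ (P i).coeff 0 ≠ 0) ∧
        (∀ v, E (Matrix.toLin' ((c.out : GL (Fin n) F) : Matrix (Fin n) (Fin n) F) v) =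
          diag (fun i => P i ^ e i) (fun _ => X) (E v)) ∧
        ∀ k : Fin n, h c k = ∏ i ∈ Finset.univ.filter (fun i => e i = k.1 + 1), P i := by
  classical
  choose ι hι P e hP hdeg φ using fun c : ConjClasses (GL (Fin n) F) => exists_decomp (n := n) c.out
  let s : ∀ c, Fin n → Finset (ι c) := fun c k => Finset.univ.filter fun i => e c i = k.1 + 1
  let h : ConjClasses (GL (Fin n) F) → Fin n → F[X] := fun c k => ∏ i ∈ s c k, P c i
  have hh : ∀ c, IsTuple n n (h c) := by
    intro c
    refine ⟨fun k => ⟨monic_prod_of_monic _ _ fun i _ => (hP c i).1, ?_⟩, ?_⟩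
    · rw [coeff_zero_prod]
      exact Finset.prod_ne_zero_iff.mpr fun i _ => (hP c i).2.2.1
    · simp only [h]
      calc ∑ k : Fin n, (k.1 + 1) * (∏ i ∈ s c k, P c i).natDegree
          = ∑ k : Fin n, ∑ i ∈ s c k, e c i * (P c i).natDegree := Finset.sum_congr rfl fun k _ => by
            rw [natDegree_prod _ _ fun i _ => (hP c i).1.ne_zero, Finset.mul_sum]
            exact Finset.sum_congr rfl fun i hi => by rw [(Finset.mem_filter.mp hi).2]
        _ = ∑ i, e c i * (P c i).natDegree := by
            let key : ι c → Fin n := fun i => ⟨e c i - 1, by have := (hP c i).2.2.2; omega⟩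
            rw [← Finset.sum_fiberwise Finset.univ key]
            refine Finset.sum_congr rfl fun k _ => Finset.sum_congr ?_ fun _ _ => rfl
            ext i
            simp only [s, Finset.mem_filter, Finset.mem_univ, true_and, key, Fin.ext_iff]
            have := (hP c i).2.2.2
            omega
        _ = n := hdeg c
  refine ⟨h, ?_, fun c => ⟨hh c, ?_⟩⟩
  · intro c d hcd
    have hcd' : h c = h d := hcd
    have hfib : ∀ z : ℕ × F[X], Nonempty ({i // (e c i, P c i) = z} ≃ {j // (e d j, P d j) = z}) := by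
      rintro ⟨k, p⟩
      by_cases hk : 1 ≤ k ∧ k ≤ n
      · have hcount : ∀ c : ConjClasses (GL (Fin n) F), Fintype.card {i // (e c i, P c i) = (k, p)} =
            (normalizedFactors (h c ⟨k - 1, by omega⟩)).count p := by
          intro c
          have hnf : normalizedFactors (h c ⟨k - 1, by omega⟩) = (s c ⟨k - 1, by omega⟩).val.map (P c) := by
            rw [show h c ⟨k - 1, by omega⟩ = ((s c ⟨k - 1, by omega⟩).val.map (P c)).prod from rfl,
              normalizedFactors_multiset_prod _ (fun h0 => by
                obtain ⟨i, -, hi⟩ := Multiset.mem_map.mp h0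
                exact (hP c i).1.ne_zero hi), Multiset.map_map]
            conv_lhs => rw [show (normalizedFactors ∘ P c) = fun i => ({P c i} : Multiset F[X]) from funext fun i => by
              rw [Function.comp_apply, normalizedFactors_irreducible (hP c i).2.1, (hP c i).1.normalize_eq_self]]
            exact Multiset.bind_singleton _ _
          rw [hnf, Multiset.count_map, Fintype.card_subtype, Finset.card_def]
          congr 1
          rw [Finset.filter_val, Finset.filter_val, Multiset.filter_filter]
          refine Multiset.filter_congr fun i _ => ?_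
          simp only [Prod.mk.injEq]
          constructor
          · rintro ⟨h1, h2⟩; exact ⟨h2.symm, by omega⟩
          · rintro ⟨h1, h2⟩; exact ⟨by omega, h1.symm⟩
        exact ⟨Fintype.equivOfCardEq (by rw [hcount, hcount, hcd'])⟩
      · have hem : ∀ c : ConjClasses (GL (Fin n) F), IsEmpty {i // (e c i, P c i) = (k, p)} := fun c => ⟨fun i => by
          have h1 := (hP c i.1).2.2.2
          have h2 := congrArg Prod.fst i.2
          simp only at h2
          omega⟩
        have := hem c
        have := hem d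
        exact ⟨Equiv.equivOfIsEmpty _ _⟩
    let σ : ι c ≃ ι d := Equiv.ofFiberEquiv (f := fun i => (e c i, P c i)) (g := fun j => (e d j, P d j))
      fun z => (hfib z).some
    have hσ : ∀ i, (e d (σ i), P d (σ i)) = (e c i, P c i) := fun i =>
      Equiv.ofFiberEquiv_map (f := fun i => (e c i, P c i)) (g := fun j => (e d j, P d j)) (fun z => (hfib z).some) i
    let T : (∀ i, F[X] ⧸ Ideal.span ({P c i ^ e c i} : Set F[X])) ≃ₗ[F[X]]
        ∀ j, F[X] ⧸ Ideal.span ({P d j ^ e d j} : Set F[X]) :=
      (LinearEquiv.piCongrRight fun i => Submodule.quotEquivOfEq _ _ (by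
        have h1 := hσ i
        rw [Prod.mk.injEq] at h1
        rw [h1.1, h1.2])).trans
        (LinearEquiv.piCongrLeft F[X] (fun j => F[X] ⧸ Ideal.span ({P d j ^ e d j} : Set F[X])) σ)
    have hconj := isConj_of_equiv ((φ c).some.trans (T.trans (φ d).some.symm))
    have := ConjClasses.mk_eq_mk_iff_isConj.mpr hconj
    rwa [show ConjClasses.mk c.out = c from Quotient.out_eq c,
      show ConjClasses.mk d.out = d from Quotient.out_eq d] at this
  · set f := Matrix.toLin' ((c.out : GL (Fin n) F) : Matrix (Fin n) (Fin n) F) with hf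
    let Ψ := (φ c).some
    let Eq' : (Fin n → F) ≃ₗ[F] ∀ i, Cyc (P c i ^ e c i) := (Module.AEval'.of f).trans (Ψ.restrictScalars F)
    have hEq : ∀ v, Eq' (f v) = diag (fun i => P c i ^ e c i) (fun _ => X) (Eq' v) := fun v => by
      show Ψ (Module.AEval'.of f (f v)) = _
      rw [← Module.AEval'.X_smul_of, map_smul]
      funext i
      rw [diag_apply]
      exact Algebra.smul_def (X : F[X]) (Eq' v i)
    have hQm : ∀ i, (P c i ^ e c i).Monic := fun i => (hP c i).1.pow _
    let Z : (ι c → F[X]) → Module.End F (Fin n → F) := fun a =>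
      (Eq'.symm : (∀ i, Cyc (P c i ^ e c i)) →ₗ[F] (Fin n → F)) ∘ₗ diag (fun i => P c i ^ e c i) a ∘ₗ
        (Eq' : (Fin n → F) →ₗ[F] ∀ i, Cyc (P c i ^ e c i))
    have hdetZ : ∀ a, LinearMap.det (Z a) =
        ∏ i, Algebra.norm F (Ideal.Quotient.mk _ (a i) : Cyc (P c i ^ e c i)) := fun a => by
      rw [← det_diag hQm a]
      exact LinearMap.det_conj (diag _ a) Eq'.symm
    have hfZ : f = Z fun _ => X := LinearMap.ext fun v => by
      show f v = Eq'.symm (diag _ _ (Eq' v))
      rw [← hEq, LinearEquiv.symm_apply_apply]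
    refine ⟨?_, fun k hk x hx => ?_, fun ζ hζ W hW k i hi => ?_,
      ι c, hι c, P c, e c, Eq', fun i => ⟨(hP c i).1, (hP c i).2.1, (hP c i).2.2.1⟩, hEq, fun _ => rfl⟩
    · have hd := hdetZ fun _ => X
      rw [← hfZ, hf, LinearMap.det_toLin'] at hd
      rw [hd, tdet]
      have h1 : ∀ i, Algebra.norm F (Ideal.Quotient.mk _ X : Cyc (P c i ^ e c i)) = mu (P c i) ^ e c i := fun i => by
        rw [norm_cyc (hP c i).1, norm_root (hP c i).1]; rfl
      simp only [h1, h]
      let key : ι c → Fin n := fun i => ⟨e c i - 1, by have := (hP c i).2.2.2; omega⟩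
      rw [← Finset.prod_fiberwise Finset.univ key]
      refine Finset.prod_congr rfl fun k _ => ?_
      rw [mu_prod _ _ fun i _ => (hP c i).1.ne_zero, ← Finset.prod_pow]
      refine Finset.prod_congr ?_ fun i hi => ?_
      · ext i
        simp only [s, Finset.mem_filter, Finset.mem_univ, true_and, key, Fin.ext_iff]
        have := (hP c i).2.2.2
        omega
      · simp only [key, Finset.mem_filter, Finset.mem_univ, true_and, Fin.ext_iff] at hi
        have := (hP c i).2.2.2
        rw [show e c i = k.1 + 1 by omega]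
    · obtain ⟨i, hi⟩ : ∃ i, i ∈ s c k := by
        by_contra hne
        push Not at hne
        simp only [h, Finset.eq_empty_of_forall_notMem hne, Finset.prod_empty, natDegree_one] at hk
        omega
      obtain ⟨a, ha⟩ := exists_norm (hP c i).1 (hP c i).2.1 (e c i) x
      have hdet : LinearMap.det (Z (Pi.mulSingle i a)) = x ^ (k.1 + 1) := by
        rw [hdetZ, Finset.prod_eq_single i]
        · rw [Pi.mulSingle_eq_same, ha, (Finset.mem_filter.mp hi).2]
        · intro j _ hj
          rw [Pi.mulSingle_eq_of_ne hj, map_one, map_one]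
        · exact fun h => absurd (Finset.mem_univ i) h
      have hcomm : Commute (Z (Pi.mulSingle i a)) f := by
        rw [hfZ]
        refine LinearMap.ext fun v => ?_
        simp only [Z, Module.End.mul_apply, LinearMap.comp_apply, LinearEquiv.coe_coe, LinearEquiv.apply_symm_apply]
        rw [← Module.End.mul_apply, ((Commute.all (Pi.mulSingle i a) (fun _ => X)).map (diag _)).eq,
          Module.End.mul_apply]
      have hne : (LinearMap.toMatrix' (Z (Pi.mulSingle i a))).det ≠ 0 := by
        rw [LinearMap.det_toMatrix', hdet]; exact pow_ne_zero _ hx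
      refine ⟨Matrix.GeneralLinearGroup.mkOfDetNeZero _ hne, ?_, ?_⟩
      · refine Units.ext (Matrix.toLin'.injective ?_)
        rw [Units.val_mul, Units.val_mul, Matrix.toLin'_mul, Matrix.toLin'_mul]
        show Matrix.toLin' (LinearMap.toMatrix' _) ∘ₗ f = f ∘ₗ Matrix.toLin' (LinearMap.toMatrix' _)
        rw [Matrix.toLin'_toMatrix']
        exact hcomm.eq
      · show (LinearMap.toMatrix' _).det = _
        rw [LinearMap.det_toMatrix', hdet]
    · let W' : (Fin n → F) ≃ₗ[F] (Fin n → F) :=
        LinearEquiv.ofBijective (Matrix.toLin' (W : Matrix (Fin n) (Fin n) F))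
          ⟨Matrix.mulVec_injective_iff_isUnit.mpr W.isUnit, Matrix.mulVec_surjective_iff_isUnit.mpr W.isUnit⟩
      have h1 := twist_invariant (fun i => ⟨(hP c i).1, (hP c i).2.1⟩) f Eq' hEq hζ W' (fun v => by
        show Matrix.toLin' (W : Matrix (Fin n) (Fin n) F) (f v) = ζ • f (Matrix.toLin' (W : Matrix (Fin n) (Fin n) F) v)
        rw [hf, ← LinearMap.comp_apply, ← Matrix.toLin'_mul, hW, map_smul, Matrix.toLin'_mul]
        rfl) (show 1 ≤ k.1 + 1 by omega)
      have h2 := congrArg (fun p : F[X] => p.coeff i) (show twistPoly ζ (h c k) = h c k from h1)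
      simp only [twistPoly, coeff_C_mul, comp_C_mul_X_coeff] at h2
      have h3 : ζ ^ i = ζ ^ (h c k).natDegree := by
        refine mul_left_cancel₀ hi ?_
        rw [mul_comm _ (ζ ^ (h c k).natDegree)]
        exact (inv_mul_eq_iff_eq_mul₀ (pow_ne_zero _ hζ)).mp h2
      exact h3

end CfsgLib.Classical.SLClassBound
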