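import Cfsg.Agent.Lib.Classical.SLClassBound.ClassMap

/-!
At most `q ^ (n - 1) + 3 q ^ (n - 2)` conjugacy classes in `SL n q`.
-/

set_option autoImplicit false
set_option linter.style.haveILetI false
set_option linter.unusedSectionVars false

namespace CfsgLib.Classical.SLClassBound

open Polynomial CfsgLib.Classical.GLClassBound

variable {F : Type*} [Field F] [Fintype F]

/-- The determinants provided by a tuple. -/
noncomputable def detSub {n : ℕ} (t : Fin n → F[X]) : Subgroup Fˣ :=
  ⨆ k : {k : Fin n // 1 ≤ (t k).natDegree}, (powMonoidHom (k.1.1 + 1) : Fˣ →* Fˣ).range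

/-- The bound for the number of classes of `SL` with a given tuple. -/
noncomputable def wt {n : ℕ} (t : Fin n → F[X]) : ℕ := (detSub t).index

/-- The tuples of determinant one. -/
abbrev T1 (F : Type*) [Field F] (n : ℕ) : Type _ :=
  {t : Fin n → F[X] // IsTuple n n t ∧ tdet t = 1}

/-- The tuples without elementary divisors of exponent one. -/
abbrev Tail (F : Type*) [Field F] (E m : ℕ) : Type _ :=
  {t : Fin E → F[X] // IsTuple E m t ∧ ∀ k : Fin E, k.1 = 0 → t k = 1}

theorem finite_tuples (E m : ℕ) : Finite {t : Fin E → F[X] // IsTuple E m t} :=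
  (tuple_finite_and_bound rfl E m).1

instance (E m : ℕ) : Finite (Tail F E m) := by
  have := finite_tuples (F := F) E m
  exact Finite.of_injective (β := {t : Fin E → F[X] // IsTuple E m t}) (fun t => ⟨t.1, t.2.1⟩)
    fun a b h => Subtype.ext (congrArg Subtype.val h :)

instance (n : ℕ) : Finite (T1 F n) := by
  have := finite_tuples (F := F) n n
  exact Finite.of_injective (β := {t : Fin n → F[X] // IsTuple n n t}) (fun t => ⟨t.1, t.2.1⟩)
    fun a b h => Subtype.ext (congrArg Subtype.val h :)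

/-- The tuple of a class. -/
noncomputable def classTuple {n : ℕ} : ConjClasses (GL (Fin n) F) → Fin n → F[X] := (exists_classMap n).choose

theorem classTuple_injective (n : ℕ) : Function.Injective (classTuple (F := F) (n := n)) :=
  (exists_classMap n).choose_spec.1

theorem card_sl_subtype_le {n : ℕ} (p : ConjClasses (Matrix.SpecialLinearGroup (Fin n) F) → Prop)
    (S : T1 F n → Prop) [Fintype {t : T1 F n // S t}]
    (hS : ∀ c, p c → ∀ t : T1 F n,
      t.1 = classTuple (ConjClasses.map Matrix.SpecialLinearGroup.toGL c) → S t) :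
    Nat.card {c // p c} ≤ ∑ t : {t : T1 F n // S t}, wt t.1.1 := by
  classical
  have hinj : Function.Injective (classTuple (F := F) (n := n)) := classTuple_injective n
  let h : ConjClasses (GL (Fin n) F) → Fin n → F[X] := classTuple
  have hh : ∀ c, IsTuple n n (h c) ∧ tdet (h c) = _ ∧ _ ∧ _ := (exists_classMap (F := F) n).choose_spec.2
  have hsum : Nat.card (Σ t : {t : T1 F n // S t}, Fˣ ⧸ detSub t.1.1) = ∑ t : {t : T1 F n // S t}, wt t.1.1 := by
    rw [Nat.card_sigma]; rfl
  rw [← hsum]
  let G : ConjClasses (Matrix.SpecialLinearGroup (Fin n) F) → ConjClasses (GL (Fin n) F) :=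
    ConjClasses.map Matrix.SpecialLinearGroup.toGL
  have hG : ∀ c, IsConj (G c).out (Matrix.SpecialLinearGroup.toGL c.out) := fun c => by
    rw [← ConjClasses.mk_eq_mk_iff_isConj, show ConjClasses.mk (G c).out = G c from Quotient.out_eq _]
    conv_lhs => rw [← show ConjClasses.mk c.out = c from Quotient.out_eq c]
    rfl
  choose w hw using fun c => isConj_iff.mp (hG c)
  have hdet : ∀ c, tdet (h (G c)) = 1 := fun c => by
    rw [(hh (G c)).2.1, ← Matrix.det_units_conj (w c) ((G c).out : Matrix (Fin n) (Fin n) F),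
      ← Units.val_mul, ← Units.val_mul, hw c]
    exact (c.out).2
  refine Nat.card_le_card_of_injective (fun c : {c // p c} => (⟨⟨⟨h (G c.1), (hh _).1, hdet c.1⟩,
    hS c.1 c.2 _ rfl⟩, QuotientGroup.mk (Matrix.GeneralLinearGroup.det (w c.1))⟩ :
      Σ t : {t : T1 F n // S t}, Fˣ ⧸ detSub t.1.1)) ?_
  rintro ⟨c, hc⟩ ⟨d, hd⟩ hcd
  refine Subtype.ext (show c = d from ?_)
  obtain ⟨h1, h2⟩ := Sigma.mk.inj_iff.mp hcd
  have hGcd : G c = G d := hinj (congrArg (fun t : {t : T1 F n // S t} => t.1.1) h1)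
  have key : ∀ (t t' : {t : T1 F n // S t}) (a b : Fˣ), t = t' →
      HEq (QuotientGroup.mk a : Fˣ ⧸ detSub t.1.1) (QuotientGroup.mk b : Fˣ ⧸ detSub t'.1.1) →
        a⁻¹ * b ∈ detSub t.1.1 := by
    rintro t _ a b rfl hh'
    exact QuotientGroup.eq.mp (eq_of_heq hh')
  have hmem := key _ _ _ _ h1 h2
  have hle : detSub (h (G c)) ≤ (Subgroup.centralizer {(G c).out}).map Matrix.GeneralLinearGroup.det := by
    refine iSup_le fun k => ?_
    rintro _ ⟨u, rfl⟩
    obtain ⟨z, hz, hzd⟩ := (hh (G c)).2.2.1 k.1 k.2 u u.ne_zero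
    exact ⟨z, Subgroup.mem_centralizer_iff.mpr fun x hx => by rw [Set.mem_singleton_iff.mp hx]; exact hz.symm.eq,
      Units.ext (by simpa using hzd)⟩
  obtain ⟨z, hz, hzd⟩ := hle hmem
  have hzc : z * (G c).out = (G c).out * z := (Subgroup.mem_centralizer_iff.mp hz _ rfl).symm
  set s := w d * z⁻¹ * (w c)⁻¹ with hs
  have hsd : (s : Matrix (Fin n) (Fin n) F).det = 1 := by
    have e : Matrix.GeneralLinearGroup.det s = 1 := by
      rw [hs, map_mul, map_mul, map_inv, map_inv, hzd, mul_inv_rev, inv_inv]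
      simp
    simpa using congrArg Units.val e
  rw [← show ConjClasses.mk c.out = c from Quotient.out_eq c,
    ← show ConjClasses.mk d.out = d from Quotient.out_eq d, ConjClasses.mk_eq_mk_iff_isConj, isConj_iff]
  obtain ⟨s', e⟩ : ∃ s' : Matrix.SpecialLinearGroup (Fin n) F, Matrix.SpecialLinearGroup.toGL s' = s :=
    ⟨⟨s, hsd⟩, Units.ext rfl⟩
  refine ⟨s', Matrix.SpecialLinearGroup.toGL_injective ?_⟩
  rw [map_mul, map_mul, map_inv]
  rw [e, ← hw c, ← hw d, ← hGcd, hs]
  have hz' : z⁻¹ * (G c).out * z = (G c).out := by rw [mul_assoc, ← hzc, inv_mul_cancel_left]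
  calc w d * z⁻¹ * (w c)⁻¹ * (w c * (G c).out * (w c)⁻¹) * (w d * z⁻¹ * (w c)⁻¹)⁻¹
      = w d * (z⁻¹ * (G c).out * z) * (w d)⁻¹ := by group
    _ = _ := by rw [hz']

theorem card_sl_le_sum (n : ℕ) [Fintype (T1 F n)] :
    Nat.card (ConjClasses (Matrix.SpecialLinearGroup (Fin n) F)) ≤ ∑ t : T1 F n, wt t.1 := by
  classical
  have := card_sl_subtype_le (F := F) (n := n) (fun _ => True) (fun _ => True) fun _ _ _ _ => trivial
  rw [Nat.card_congr (Equiv.subtypeUnivEquiv fun _ => trivial)] at this
  refine this.trans (le_of_eq (Fintype.sum_equiv (Equiv.subtypeUnivEquiv fun _ => trivial) _ _ fun _ => rfl))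

section weight

variable {n : ℕ} (t : Fin n → F[X])

theorem wt_le_units : wt t ≤ Fintype.card F - 1 := by
  classical
  refine (Nat.le_of_dvd Nat.card_pos (Subgroup.index_dvd_card _)).trans ?_
  rw [Nat.card_eq_fintype_card, Fintype.card_units]

theorem wt_le_exp (k : Fin n) (hk : 1 ≤ (t k).natDegree) : wt t ≤ k.1 + 1 := by
  have h1 : (powMonoidHom (k.1 + 1) : Fˣ →* Fˣ).range ≤ detSub t :=
    le_iSup (fun j : {j : Fin n // 1 ≤ (t j).natDegree} => (powMonoidHom (j.1.1 + 1) : Fˣ →* Fˣ).range) ⟨k, hk⟩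
  have h2 := Nat.le_of_dvd (Nat.pos_of_ne_zero Subgroup.index_ne_zero_of_finite) (Subgroup.index_dvd_of_le h1)
  refine h2.trans ?_
  rw [IsCyclic.index_powMonoidHom_range]
  exact Nat.le_of_dvd (Nat.succ_pos _) (Nat.gcd_dvd_right _ _)

theorem wt_eq_one (k : Fin n) (hk0 : k.1 = 0) (hk : 1 ≤ (t k).natDegree) : wt t = 1 :=
  le_antisymm (by simpa [hk0] using wt_le_exp t k hk) (Nat.pos_of_ne_zero Subgroup.index_ne_zero_of_finite)

end weight

section split

variable (F) (n : ℕ) [NeZero n]

/-- The tuples of determinant one with an elementary divisor of exponent one. -/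
abbrev TA : Type _ := {t : T1 F n // 1 ≤ (t.1 0).natDegree}

/-- The other tuples of determinant one. -/
abbrev TB : Type _ := {t : T1 F n // ¬ 1 ≤ (t.1 0).natDegree}

theorem tb_tail (t : TB F n) : IsTuple n n t.1.1 ∧ ∀ k : Fin n, k.1 = 0 → t.1.1 k = 1 :=
  ⟨t.1.2.1, fun k hk => by
    obtain rfl : k = 0 := Fin.ext (by simpa using hk)
    exact eq_one_of_degree_zero (t.1.2.1.1 0).1 (by have := t.2; omega)⟩

theorem card_sl_le_split [Fintype (TB F n)] :
    Nat.card (ConjClasses (Matrix.SpecialLinearGroup (Fin n) F)) ≤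
      Nat.card (TA F n) + ∑ t : TB F n, wt t.1.1 := by
  classical
  letI := Fintype.ofFinite (T1 F n)
  refine (card_sl_le_sum n).trans (le_of_eq ?_)
  rw [← Fintype.sum_subtype_add_sum_subtype (fun t : T1 F n => 1 ≤ (t.1 0).natDegree) fun t => wt t.1,
    Nat.card_eq_fintype_card, Fintype.card_eq_sum_ones]
  congr 1
  · exact Finset.sum_congr rfl fun t _ => wt_eq_one t.1.1 0 (by simp) t.2
  · exact Finset.sum_congr (by ext; simp) fun _ _ => rfl

theorem card_tb_le : Nat.card (TB F n) ≤ Nat.card (Tail F n n) :=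
  Nat.card_le_card_of_injective (fun t : TB F n => (⟨t.1.1, tb_tail F n t⟩ : Tail F n n)) fun a b h =>
    Subtype.ext (Subtype.ext (congrArg Subtype.val h :))

theorem mu_add_const {f : F[X]} (hd : 1 ≤ f.natDegree) (u : F) :
    (f + C ((u - 1) * f.coeff 0)).natDegree = f.natDegree ∧ mu (f + C ((u - 1) * f.coeff 0)) = u * mu f ∧
      (f + C ((u - 1) * f.coeff 0)).coeff 0 = u * f.coeff 0 := by
  have h1 : (f + C ((u - 1) * f.coeff 0)).natDegree = f.natDegree := natDegree_add_C
  have h2 : (f + C ((u - 1) * f.coeff 0)).coeff 0 = u * f.coeff 0 := by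
    rw [coeff_add, coeff_C_zero]; ring
  refine ⟨h1, ?_, h2⟩
  rw [mu, h1, h2, mu]; ring

theorem tdet_update_zero (t : Fin n → F[X]) (f : F[X]) :
    tdet (Function.update t 0 f) * mu (t 0) = mu f * tdet t := by
  classical
  rw [tdet, tdet, ← Finset.mul_prod_erase _ _ (Finset.mem_univ (0 : Fin n)),
    ← Finset.mul_prod_erase Finset.univ (fun k : Fin n => mu (t k) ^ (k.1 + 1)) (Finset.mem_univ 0),
    Function.update_self, Finset.prod_congr rfl (g := fun k : Fin n => mu (t k) ^ (k.1 + 1)) fun k hk => by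
      rw [Function.update_of_ne (Finset.ne_of_mem_erase hk)]]
  simp only [Fin.val_zero, zero_add, pow_one]
  ring

theorem card_ta_units :
    (Fintype.card F - 1) * Nat.card (TA F n) + Nat.card (Tail F n n) ≤ Fintype.card F ^ n := by
  classical
  have hT := finite_tuples (F := F) n n
  have hn : 1 ≤ n := Nat.one_le_iff_ne_zero.mpr (NeZero.ne n)
  have hbound : Nat.card {t : Fin n → F[X] // IsTuple n n t} ≤ Fintype.card F ^ n := by
    have h1 := (tuple_finite_and_bound (F := F) rfl n n).2.2 hn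
    rw [pow_add] at h1
    exact Nat.le_of_mul_le_mul_left (le_trans (Nat.le_add_right _ _) h1) (Nat.pow_pos Fintype.card_pos)
  refine le_trans ?_ hbound
  have hc : Nat.card ((Fˣ × TA F n) ⊕ Tail F n n) =
      (Fintype.card F - 1) * Nat.card (TA F n) + Nat.card (Tail F n n) := by
    rw [Nat.card_sum, Nat.card_prod, Nat.card_eq_fintype_card (α := Fˣ), Fintype.card_units]
  rw [← hc]
  let up : Fˣ × TA F n → Fin n → F[X] := fun x =>
    Function.update x.2.1.1 0 (x.2.1.1 0 + C (((x.1 : F) - 1) * (x.2.1.1 0).coeff 0))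
  have hup : ∀ x, IsTuple n n (up x) ∧ tdet (up x) = x.1 ∧ 1 ≤ (up x 0).natDegree := by
    rintro ⟨u, t, hd⟩
    obtain ⟨hdeg, hmu, hco⟩ := mu_add_const F (f := t.1 0) hd (u : F)
    refine ⟨⟨fun k => ?_, ?_⟩, ?_, ?_⟩
    · rcases eq_or_ne k 0 with rfl | hk
      · simp only [up, Function.update_self]
        refine ⟨(t.2.1.1 0).1.add_of_left ?_, ?_⟩
        · exact lt_of_le_of_lt degree_C_le (natDegree_pos_iff_degree_pos.mp hd)
        · rw [hco]; exact mul_ne_zero u.ne_zero (t.2.1.1 0).2
      · simp only [up, Function.update_of_ne hk]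
        exact t.2.1.1 k
    · conv_rhs => rw [← t.2.1.2]
      refine Finset.sum_congr rfl fun k _ => ?_
      rcases eq_or_ne k 0 with rfl | hk
      · simp only [up, Function.update_self, hdeg]
      · simp only [up, Function.update_of_ne hk]
    · have h := tdet_update_zero F n t.1 (t.1 0 + C (((u : F) - 1) * (t.1 0).coeff 0))
      rw [hmu, t.2.2, mul_one] at h
      exact mul_right_cancel₀ (mu_ne_zero (t.2.1.1 0).2) h
    · simp only [up, Function.update_self, hdeg]
      exact hd
  refine Nat.card_le_card_of_injective (Sum.elim (fun x => (⟨up x, (hup x).1⟩ : {t : Fin n → F[X] // IsTuple n n t}))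
    fun t => ⟨t.1, t.2.1⟩) ?_
  rintro (x | x) (y | y) e <;> have e' := congrArg Subtype.val e <;> simp only [Sum.elim_inl, Sum.elim_inr] at e'
  · have hu : x.1 = y.1 := Units.ext (by rw [← (hup x).2.1, ← (hup y).2.1, e'])
    refine congrArg Sum.inl (Prod.ext hu (Subtype.ext (Subtype.ext (funext fun k => ?_))))
    rcases eq_or_ne k 0 with rfl | hk
    · have h0 := congrFun e' 0
      simp only [up, Function.update_self, hu] at h0
      have hc0 := congrArg (fun f => f.coeff 0) h0
      simp only [(mu_add_const F x.2.2 (y.1 : F)).2.2, (mu_add_const F y.2.2 (y.1 : F)).2.2] at hc0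
      rw [mul_left_cancel₀ y.1.ne_zero hc0] at h0
      exact add_right_cancel h0
    · have h0 := congrFun e' k
      simpa only [up, Function.update_of_ne hk] using h0
  · have := (hup x).2.2
    rw [congrFun e' 0, y.2.2 0 (by simp), natDegree_one] at this
    omega
  · have := (hup y).2.2
    rw [← congrFun e' 0, x.2.2 0 (by simp), natDegree_one] at this
    omega
  · exact congrArg Sum.inr (Subtype.ext e')

end split

end CfsgLib.Classical.SLClassBound
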