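import Mathlib

/-!
Determinants of multiplications on `∏ F[X] ⧸ (P ^ e)`.
-/

set_option autoImplicit false
set_option linter.style.haveILetI false
set_option maxHeartbeats 400000

namespace CfsgLib.Classical.SLClassBound

open Polynomial Module

variable {F : Type*} [Field F]

/-- The determinant along a short exact sequence. -/
theorem det_of_exact {A V B : Type*} [AddCommGroup A] [Module F A] [AddCommGroup V] [Module F V]
    [AddCommGroup B] [Module F B] [FiniteDimensional F V] (φ : A →ₗ[F] V) (ψ : V →ₗ[F] B)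
    (hφ : Function.Injective φ) (hψ : Function.Surjective ψ) (hex : LinearMap.range φ = LinearMap.ker ψ)
    (TA : Module.End F A) (T : Module.End F V) (TB : Module.End F B)
    (h1 : ∀ x, T (φ x) = φ (TA x)) (h2 : ∀ x, ψ (T x) = TB (ψ x)) :
    LinearMap.det T = LinearMap.det TA * LinearMap.det TB := by
  have he : LinearMap.range φ ≤ (LinearMap.range φ).comap T := by
    rintro _ ⟨x, rfl⟩
    exact ⟨TA x, (h1 x).symm⟩
  rw [LinearMap.det_eq_det_mul_det (LinearMap.range φ) T he]
  let eA : A ≃ₗ[F] LinearMap.range φ := LinearEquiv.ofInjective φ hφ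
  let eB : (V ⧸ LinearMap.range φ) ≃ₗ[F] B :=
    (Submodule.quotEquivOfEq _ _ hex).trans (ψ.quotKerEquivOfSurjective hψ)
  congr 1
  · rw [← LinearMap.det_conj TA eA]
    congr 1
    refine LinearMap.ext fun x => ?_
    obtain ⟨y, rfl⟩ := eA.surjective x
    simp only [LinearMap.comp_apply, LinearEquiv.coe_coe, LinearEquiv.symm_apply_apply]
    exact Subtype.ext (h1 y)
  · rw [← LinearMap.det_conj TB eB.symm]
    congr 1
    refine LinearMap.ext fun x => ?_
    obtain ⟨y, rfl⟩ := Submodule.Quotient.mk_surjective _ x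
    simp only [LinearMap.comp_apply, LinearEquiv.coe_coe, LinearEquiv.symm_symm]
    rw [LinearEquiv.eq_symm_apply]
    exact h2 y

/-- The quotient ring. -/
abbrev Cyc (Q : F[X]) : Type _ := F[X] ⧸ Ideal.span ({Q} : Set F[X])

/-- The determinant of multiplication on a primary component. -/
theorem norm_cyc {P : F[X]} (hP : P.Monic) (a : F[X]) : ∀ e : ℕ,
    Algebra.norm F (Ideal.Quotient.mk (Ideal.span {P ^ e}) a : Cyc (P ^ e)) =
      Algebra.norm F (AdjoinRoot.mk P a) ^ e := by
  intro e
  induction e with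
  | zero =>
    have : Subsingleton (Cyc (P ^ 0)) := Ideal.Quotient.subsingleton_iff.mpr (by simp)
    rw [pow_zero (Algebra.norm F (AdjoinRoot.mk P a)), Algebra.norm_apply]
    exact LinearMap.det_eq_one_of_subsingleton _
  | succ e ih =>
    have := (hP.pow (e + 1)).finite_adjoinRoot
    have hVfin : Module.Finite F (Cyc (P ^ (e + 1))) := this
    have hle : Ideal.span {P ^ e} ≤ Submodule.comap (LinearMap.mulLeft F[X] P) (Ideal.span {P ^ (e + 1)}) := fun x hx => by
      rw [Submodule.mem_comap, LinearMap.mulLeft_apply, Ideal.mem_span_singleton, pow_succ']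
      exact mul_dvd_mul_left P (Ideal.mem_span_singleton.mp hx)
    let φ : Cyc (P ^ e) →ₗ[F] Cyc (P ^ (e + 1)) :=
      (Submodule.mapQ (Ideal.span {P ^ e}) (Ideal.span {P ^ (e + 1)}) (LinearMap.mulLeft F[X] P) hle).restrictScalars F
    have hle2 : Ideal.span {P ^ (e + 1)} ≤ Ideal.span {P} :=
      Ideal.span_singleton_le_span_singleton.mpr (dvd_pow_self P (Nat.succ_ne_zero e))
    let ψ : Cyc (P ^ (e + 1)) →ₗ[F] AdjoinRoot P :=
      (Submodule.mapQ (Ideal.span {P ^ (e + 1)}) (Ideal.span {P}) LinearMap.id hle2).restrictScalars F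
    have hφ : ∀ b, φ (Ideal.Quotient.mk _ b) = Ideal.Quotient.mk _ (P * b) := fun _ => rfl
    have hψ : ∀ b, ψ (Ideal.Quotient.mk _ b) = AdjoinRoot.mk P b := fun _ => rfl
    rw [pow_succ (Algebra.norm F (AdjoinRoot.mk P a)), ← ih, Algebra.norm_apply, Algebra.norm_apply,
      Algebra.norm_apply]
    refine det_of_exact φ ψ ?_ ?_ ?_ _ _ _ (fun x => ?_) fun x => ?_
    · rw [injective_iff_map_eq_zero]
      intro x hx
      obtain ⟨b, rfl⟩ := Ideal.Quotient.mk_surjective x
      rw [hφ, Ideal.Quotient.eq_zero_iff_mem, Ideal.mem_span_singleton, pow_succ'] at hx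
      rw [Ideal.Quotient.eq_zero_iff_mem, Ideal.mem_span_singleton]
      exact (mul_dvd_mul_iff_left hP.ne_zero).mp hx
    · intro y
      obtain ⟨b, rfl⟩ := AdjoinRoot.mk_surjective y
      exact ⟨Ideal.Quotient.mk _ b, hψ b⟩
    · ext x
      obtain ⟨b, rfl⟩ := Ideal.Quotient.mk_surjective x
      rw [LinearMap.mem_range, LinearMap.mem_ker, hψ, AdjoinRoot.mk_eq_zero]
      constructor
      · rintro ⟨y, hy⟩
        obtain ⟨c, rfl⟩ := Ideal.Quotient.mk_surjective y
        rw [hφ, Ideal.Quotient.mk_eq_mk_iff_sub_mem, Ideal.mem_span_singleton] at hy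
        exact (dvd_sub_right (dvd_mul_right P c)).mp ((dvd_pow_self P (Nat.succ_ne_zero e)).trans hy)
      · rintro ⟨c, rfl⟩
        exact ⟨Ideal.Quotient.mk _ c, hφ c⟩
    · obtain ⟨b, rfl⟩ := Ideal.Quotient.mk_surjective x
      simp only [Algebra.coe_lmul_eq_mul, LinearMap.mul_apply', hφ, ← map_mul]
      rw [mul_left_comm]
    · obtain ⟨b, rfl⟩ := Ideal.Quotient.mk_surjective x
      simp only [Algebra.coe_lmul_eq_mul, LinearMap.mul_apply', hψ, ← map_mul]

theorem norm_root {P : F[X]} (hP : P.Monic) :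
    Algebra.norm F (AdjoinRoot.mk P X) = (-1) ^ P.natDegree * P.coeff 0 := by
  have h := Algebra.PowerBasis.norm_gen_eq_coeff_zero_minpoly (AdjoinRoot.powerBasis' hP)
  rw [AdjoinRoot.powerBasis'_dim, AdjoinRoot.powerBasis'_gen] at h
  have h2 := AdjoinRoot.minpoly_powerBasis_gen_of_monic hP
  rw [AdjoinRoot.powerBasis_gen] at h2
  rw [AdjoinRoot.mk_X, h, h2]

section diag

variable {ι : Type} [Fintype ι] [DecidableEq ι] (Q : ι → F[X])

/-- Componentwise multiplication. -/
noncomputable def diag : (ι → F[X]) →* Module.End F (∀ i, Cyc (Q i)) where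
  toFun a := LinearMap.pi fun i => (Algebra.lmul F (Cyc (Q i)) (Ideal.Quotient.mk _ (a i))) ∘ₗ LinearMap.proj i
  map_one' := LinearMap.ext fun x => funext fun i => by simp
  map_mul' a b := LinearMap.ext fun x => funext fun i => by simp [map_mul, mul_assoc]

theorem diag_apply (a : ι → F[X]) (x : ∀ i, Cyc (Q i)) (i : ι) :
    diag Q a x i = Ideal.Quotient.mk _ (a i) * x i := by simp [diag]

variable {Q}

theorem det_diag_single (hQ : ∀ i, (Q i).Monic) (i : ι) (a : F[X]) :
    LinearMap.det (diag Q (Pi.mulSingle i a)) = Algebra.norm F (Ideal.Quotient.mk _ a : Cyc (Q i)) := by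
  have : ∀ j, Module.Finite F (Cyc (Q j)) := fun j => (hQ j).finite_adjoinRoot
  let ψ : (∀ j, Cyc (Q j)) →ₗ[F] ∀ j : {j // j ≠ i}, Cyc (Q j) := LinearMap.pi fun j => LinearMap.proj j.1
  rw [Algebra.norm_apply, det_of_exact (LinearMap.single F (fun j => Cyc (Q j)) i) ψ ?_ ?_ ?_
    (Algebra.lmul F _ (Ideal.Quotient.mk _ a : Cyc (Q i))) _ LinearMap.id ?_ ?_, LinearMap.det_id, mul_one]
  · exact Pi.single_injective (M := fun j => Cyc (Q j)) i
  · intro y
    refine ⟨fun j => if h : j = i then 0 else y ⟨j, h⟩, funext fun j => ?_⟩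
    simp [ψ, dif_neg j.2]
  · ext x
    rw [LinearMap.mem_range, LinearMap.mem_ker]
    constructor
    · rintro ⟨y, rfl⟩
      funext j
      simp [ψ, Pi.single_eq_of_ne j.2]
    · intro hx
      refine ⟨x i, funext fun j => ?_⟩
      by_cases h : j = i
      · subst h; simp
      · have := congrFun hx ⟨j, h⟩
        simp [Pi.single_eq_of_ne h] at *
        exact this.symm
  · intro y
    funext j
    by_cases h : j = i
    · subst h; simp [diag_apply]
    · simp [diag_apply, Pi.single_eq_of_ne h]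
  · intro x
    funext j
    simp [diag_apply, ψ, Pi.mulSingle_eq_of_ne j.2]

theorem det_diag (hQ : ∀ i, (Q i).Monic) (a : ι → F[X]) :
    LinearMap.det (diag Q a) = ∏ i, Algebra.norm F (Ideal.Quotient.mk _ (a i) : Cyc (Q i)) := by
  let d : (ι → F[X]) →* F := LinearMap.det.comp (diag Q)
  show d a = _
  conv_lhs => rw [← Finset.univ_prod_mulSingle a, map_prod]
  exact Finset.prod_congr rfl fun i _ => det_diag_single hQ i (a i)

end diag

/-- Every power of a non-zero scalar is the determinant of a multiplication on a primary component. -/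
theorem exists_norm [Finite F] {P : F[X]} (hP : P.Monic) (hirr : Irreducible P) (e : ℕ) (x : F) :
    ∃ a : F[X], Algebra.norm F (Ideal.Quotient.mk (Ideal.span {P ^ e}) a : Cyc (P ^ e)) = x ^ e := by
  have : Fact (Irreducible P) := ⟨hirr⟩
  have : Module.Finite F (AdjoinRoot P) := hP.finite_adjoinRoot
  have : Finite (AdjoinRoot P) := Module.finite_of_finite F
  obtain ⟨y, hy⟩ := FiniteField.norm_surjective F (AdjoinRoot P) x
  obtain ⟨a, rfl⟩ := AdjoinRoot.mk_surjective y
  exact ⟨a, by rw [norm_cyc hP, hy]⟩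

end CfsgLib.Classical.SLClassBound
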