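import Cfsg.Agent.Lib.Classical.SLClassBound.Bound
import Cfsg.Agent.Lib.Classical.Card

/-!
Conjugacy classes of `PSL n q`.
-/

set_option autoImplicit false
set_option linter.style.haveILetI false
set_option linter.unusedSectionVars false

namespace CfsgLib.Classical.SLClassBound

open Polynomial CfsgLib.Classical.GLClassBound
open scoped MatrixGroups

section burnside

variable {G : Type*} [Group G]

/-- Multiplication of a class by a central element. -/
def centralMul (z : Subgroup.center G) : ConjClasses G → ConjClasses G :=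
  Quotient.map (fun g => (z : G) * g) fun a b (h : IsConj a b) => by
    obtain ⟨c, rfl⟩ := isConj_iff.mp h
    refine isConj_iff.mpr ⟨c, ?_⟩
    have hz := Subgroup.mem_center_iff.mp z.2 c
    rw [← mul_assoc c, hz]
    simp only [mul_assoc]

theorem centralMul_mk (z : Subgroup.center G) (g : G) :
    centralMul z (ConjClasses.mk g) = ConjClasses.mk ((z : G) * g) := rfl

/-- Burnside's count for the classes of the central quotient. -/
theorem card_classes_quotient_center [Finite G] [Fintype (Subgroup.center G)] :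
    Nat.card (Subgroup.center G) * Nat.card (ConjClasses (G ⧸ Subgroup.center G)) =
      ∑ z : Subgroup.center G, Nat.card {c : ConjClasses G // centralMul z c = c} := by
  classical
  letI : MulAction (Subgroup.center G) (ConjClasses G) :=
    { smul := centralMul
      one_smul := fun c => by
        obtain ⟨g, rfl⟩ := ConjClasses.exists_rep c
        show centralMul _ _ = _
        rw [centralMul_mk, OneMemClass.coe_one, one_mul]
      mul_smul := fun a b c => by
        obtain ⟨g, rfl⟩ := ConjClasses.exists_rep c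
        show centralMul _ _ = centralMul _ (centralMul _ _)
        simp only [centralMul_mk, Subgroup.coe_mul, mul_assoc] }
  letI := Fintype.ofFinite (ConjClasses G)
  letI := Fintype.ofFinite (MulAction.orbitRel.Quotient (Subgroup.center G) (ConjClasses G))
  have hB := MulAction.sum_card_fixedBy_eq_card_orbits_mul_card_group (Subgroup.center G) (ConjClasses G)
  let π : ConjClasses G → ConjClasses (G ⧸ Subgroup.center G) := ConjClasses.map (QuotientGroup.mk' _)
  have hπ : ∀ g, π (ConjClasses.mk g) = ConjClasses.mk (QuotientGroup.mk' (Subgroup.center G) g) := fun _ => rfl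
  let toQ : MulAction.orbitRel.Quotient (Subgroup.center G) (ConjClasses G) → ConjClasses (G ⧸ Subgroup.center G) :=
    Quotient.lift π fun a b (h : a ∈ MulAction.orbit (Subgroup.center G) b) => by
      obtain ⟨z, rfl⟩ := h
      obtain ⟨g, rfl⟩ := ConjClasses.exists_rep b
      show π (centralMul z _) = _
      rw [centralMul_mk, hπ, hπ, map_mul, QuotientGroup.mk'_apply, (QuotientGroup.eq_one_iff _).mpr z.2, one_mul]
  have hbij : Function.Bijective toQ := by
    constructor
    · rintro ⟨a⟩ ⟨b⟩ h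
      change π a = π b at h
      obtain ⟨g, rfl⟩ := ConjClasses.exists_rep a
      obtain ⟨g', rfl⟩ := ConjClasses.exists_rep b
      rw [hπ, hπ, ConjClasses.mk_eq_mk_iff_isConj, isConj_iff] at h
      obtain ⟨c, hc⟩ := h
      obtain ⟨c, rfl⟩ := QuotientGroup.mk'_surjective _ c
      rw [← map_mul, ← map_inv, ← map_mul] at hc
      obtain ⟨z, hz, hzc⟩ := (QuotientGroup.mk'_eq_mk' _).mp hc
      apply Quotient.sound
      refine ⟨(⟨z, hz⟩ : Subgroup.center G)⁻¹, ?_⟩
      show centralMul _ _ = _
      rw [centralMul_mk, ConjClasses.mk_eq_mk_iff_isConj, isConj_iff]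
      refine ⟨c⁻¹, ?_⟩
      have e : (((⟨z, hz⟩ : Subgroup.center G)⁻¹ : Subgroup.center G) : G) * g' = c * g * c⁻¹ := by
        rw [← hzc, Subgroup.mem_center_iff.mp hz (c * g * c⁻¹)]
        simp
      rw [e]; group
    · intro x
      obtain ⟨y, rfl⟩ := ConjClasses.exists_rep x
      obtain ⟨g, rfl⟩ := QuotientGroup.mk'_surjective _ y
      exact ⟨Quotient.mk _ (ConjClasses.mk g), rfl⟩
  rw [← Nat.card_congr (Equiv.ofBijective toQ hbij), Nat.card_eq_fintype_card, Nat.card_eq_fintype_card, mul_comm, ← hB]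
  exact Finset.sum_congr rfl fun z _ => by rw [← Nat.card_eq_fintype_card]; rfl

end burnside

variable {F : Type*} [Field F] [Fintype F]

/-- All exponents occurring in the tuple are divisible by `r`. -/
def Inv {n : ℕ} (r : ℕ) (t : Fin n → F[X]) : Prop := ∀ k i, (t k).coeff i ≠ 0 → r ∣ i

theorem contract_facts {r : ℕ} (hr : r ≠ 0) {f : F[X]} (hm : f.Monic) (h0 : f.coeff 0 ≠ 0)
    (hI : ∀ i, f.coeff i ≠ 0 → r ∣ i) :
    (contract r f).Monic ∧ (contract r f).coeff 0 ≠ 0 ∧ (contract r f).natDegree * r = f.natDegree := by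
  obtain ⟨d, hd⟩ := hI f.natDegree (by rw [hm.coeff_natDegree]; exact one_ne_zero)
  have htop : (contract r f).coeff d = 1 := by rw [coeff_contract hr, mul_comm, ← hd]; exact hm
  have hdeg : (contract r f).natDegree = d := by
    refine natDegree_eq_of_le_of_coeff_ne_zero (natDegree_le_iff_coeff_eq_zero.mpr fun i hi => ?_)
      (by rw [htop]; exact one_ne_zero)
    rw [coeff_contract hr]
    refine coeff_eq_zero_of_natDegree_lt ?_
    rw [hd, mul_comm r d]
    exact Nat.mul_lt_mul_of_pos_right hi (Nat.pos_of_ne_zero hr)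
  refine ⟨?_, by rwa [coeff_contract hr, zero_mul], by rw [hdeg, hd, mul_comm]⟩
  show (contract r f).coeff _ = 1
  rw [hdeg, htop]

theorem inv_total {n r : ℕ} (hr : r ≠ 0) {t : Fin n → F[X]} (ht : IsTuple n n t) (hI : Inv r t) :
    r ∣ n ∧ IsTuple n (n / r) (fun k => contract r (t k)) := by
  have hc := fun k => contract_facts hr (ht.1 k).1 (ht.1 k).2 (hI k)
  have hsum : (∑ k : Fin n, (k.1 + 1) * (contract r (t k)).natDegree) * r = n := by
    rw [Finset.sum_mul]
    refine (Finset.sum_congr rfl fun k _ => ?_).trans ht.2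
    rw [mul_assoc, (hc k).2.2]
  refine ⟨⟨_, (mul_comm _ _).trans hsum |>.symm⟩, fun k => ⟨(hc k).1, (hc k).2.1⟩, ?_⟩
  conv_rhs => arg 1; rw [← hsum]
  rw [Nat.mul_div_cancel _ (Nat.pos_of_ne_zero hr)]

theorem inv_injective {n r : ℕ} (hr : r ≠ 0) {t t' : Fin n → F[X]} (hI : Inv r t) (hI' : Inv r t')
    (h : (fun k => contract r (t k)) = fun k => contract r (t' k)) : t = t' := by
  funext k
  ext i
  by_cases hd : r ∣ i
  · obtain ⟨j, rfl⟩ := hd
    have := congrArg (fun p : F[X] => p.coeff j) (congrFun h k)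
    simp only [coeff_contract hr] at this
    rwa [mul_comm]
  · rw [Classical.not_not.mp fun h => hd (hI k i h), Classical.not_not.mp fun h => hd (hI' k i h)]

theorem card_inv_le (n : ℕ) [NeZero n] {r : ℕ} (hr : r ≠ 0) [Fintype {t : T1 F n // Inv r t.1}] :
    ∑ t : {t : T1 F n // Inv r t.1}, wt t.1.1 ≤
      Fintype.card F ^ (n / r) + (Fintype.card F - 2) * Nat.card (Tail F n (n / r)) := by
  classical
  have := finite_tuples (F := F) n (n / r)
  have hwt : ∀ t : {t : T1 F n // Inv r t.1},
      wt t.1.1 ≤ 1 + (Fintype.card F - 2) * (if 1 ≤ (t.1.1 0).natDegree then 0 else 1) := fun t => by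
    split_ifs with h
    · rw [wt_eq_one t.1.1 0 (by simp) h, mul_zero, add_zero]
    · rw [mul_one]
      have := wt_le_units t.1.1
      omega
  refine (Finset.sum_le_sum fun t _ => hwt t).trans ?_
  rw [Finset.sum_add_distrib, ← Finset.mul_sum, ← Fintype.card_eq_sum_ones]
  refine Nat.add_le_add ?_ (Nat.mul_le_mul_left _ ?_)
  · rcases isEmpty_or_nonempty {t : T1 F n // Inv r t.1} with h | ⟨⟨t₀⟩⟩
    · simp
    have hpos : 1 ≤ n / r :=
      Nat.div_pos (Nat.le_of_dvd (NeZero.pos n) (inv_total hr t₀.1.2.1 t₀.2).1) (Nat.pos_of_ne_zero hr)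
    have h1 := (tuple_finite_and_bound (F := F) rfl n (n / r)).2.2 hpos
    rw [pow_add] at h1
    refine le_trans ?_ (Nat.le_of_mul_le_mul_left (le_trans (Nat.le_add_right _ _) h1)
      (Nat.pow_pos Fintype.card_pos))
    rw [← Nat.card_eq_fintype_card]
    exact Nat.card_le_card_of_injective
      (fun t => (⟨_, (inv_total hr t.1.2.1 t.2).2⟩ : {u : Fin n → F[X] // IsTuple n (n / r) u}))
      fun a b e => Subtype.ext (Subtype.ext (inv_injective hr a.2 b.2 (congrArg Subtype.val e :)))
  · simp only [← ite_not (p := 1 ≤ _), ← Finset.card_filter]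
    rw [← Fintype.card_coe, ← Nat.card_eq_fintype_card]
    refine Nat.card_le_card_of_injective (fun t => (⟨_, (inv_total hr t.1.1.2.1 t.1.2).2, fun k hk => ?_⟩ :
      Tail F n (n / r))) fun a b e => Subtype.ext (Subtype.ext (Subtype.ext
        (inv_injective hr a.1.2 b.1.2 (congrArg Subtype.val e :))))
    obtain rfl : k = 0 := Fin.ext (by simpa using hk)
    have hd0 : ¬ 1 ≤ (t.1.1.1 0).natDegree := (Finset.mem_filter.mp t.2).2
    have h1 := eq_one_of_degree_zero (t.1.1.2.1.1 0).1 (by omega : (t.1.1.1 0).natDegree = 0)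
    show contract r (t.1.1.1 0) = 1
    obtain ⟨hc1, -, hc3⟩ := contract_facts hr (t.1.1.2.1.1 0).1 (t.1.1.2.1.1 0).2 (t.1.2 0)
    refine eq_one_of_degree_zero hc1 ((mul_eq_zero.mp ?_).resolve_right hr)
    rw [hc3, h1, natDegree_one]

theorem inv_of_fixed {n : ℕ} {ζ : F} (hζ : ζ ≠ 0) (z : Subgroup.center (Matrix.SpecialLinearGroup (Fin n) F))
    (hz : (z.1 : Matrix (Fin n) (Fin n) F) = Matrix.scalar (Fin n) ζ)
    (c : ConjClasses (Matrix.SpecialLinearGroup (Fin n) F)) (hc : centralMul z c = c) :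
    Inv (orderOf ζ) (classTuple (ConjClasses.map Matrix.SpecialLinearGroup.toGL c)) := by
  obtain ⟨g, rfl⟩ := ConjClasses.exists_rep c
  rw [centralMul_mk, ConjClasses.mk_eq_mk_iff_isConj, isConj_iff] at hc
  obtain ⟨s, hs⟩ := hc
  set C' := ConjClasses.map Matrix.SpecialLinearGroup.toGL (ConjClasses.mk g) with hC
  obtain ⟨w, hw⟩ := isConj_iff.mp (ConjClasses.mk_eq_mk_iff_isConj.mp
    (show ConjClasses.mk C'.out = ConjClasses.mk (Matrix.SpecialLinearGroup.toGL g) by
      rw [show ConjClasses.mk C'.out = C' from Quotient.out_eq C']; rfl))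
  obtain ⟨hT, -, -, htw, -⟩ := (exists_classMap (F := F) n).choose_spec.2 C'
  set T := Matrix.SpecialLinearGroup.toGL s
  set Z := Matrix.SpecialLinearGroup.toGL z.1
  have hgl : T * (Z * (w * C'.out * w⁻¹)) * T⁻¹ = w * C'.out * w⁻¹ := by
    rw [hw, ← map_inv, ← map_mul, ← map_mul, ← map_mul, hs]
  have hZ : ∀ x : GL (Fin n) F, ((Z * x : GL (Fin n) F) : Matrix (Fin n) (Fin n) F) = ζ • (x : Matrix (Fin n) (Fin n) F) := fun x => by
    rw [Units.val_mul]
    show (z.1 : Matrix (Fin n) (Fin n) F) * _ = _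
    rw [hz, Matrix.scalar_apply, ← Matrix.smul_eq_diagonal_mul]
  have hcomm : T * Z = Z * T := by
    rw [← map_mul, ← map_mul, Subgroup.mem_center_iff.mp z.2 s]
  intro k i hi
  have key := htw ζ⁻¹ (inv_ne_zero hζ) (w⁻¹ * T * w) (by
    have e : w⁻¹ * T * w * C'.out = Z⁻¹ * (C'.out * (w⁻¹ * T * w)) := by
      rw [eq_inv_mul_iff_mul_eq]
      calc Z * (w⁻¹ * T * w * C'.out) = Z * w⁻¹ * (T * (w * C'.out * w⁻¹)) * w := by group
        _ = w⁻¹ * (T * (Z * (w * C'.out * w⁻¹)) * T⁻¹) * T * w := by
            have hzw : Z * w⁻¹ = w⁻¹ * Z := Units.ext (by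
              rw [hZ, Units.val_mul w⁻¹ Z]
              show _ = _ * (z.1 : Matrix (Fin n) (Fin n) F)
              rw [hz, Matrix.scalar_apply, ← Matrix.smul_eq_mul_diagonal])
            rw [hzw, ← mul_assoc T Z, hcomm]
            group
        _ = C'.out * (w⁻¹ * T * w) := by rw [hgl]; group
    have e2 := congrArg (fun x : GL (Fin n) F => Z * x) e
    simp only [mul_inv_cancel_left] at e2
    have e3 := congrArg (fun x : GL (Fin n) F => (x : Matrix (Fin n) (Fin n) F)) e2
    simp only [hZ] at e3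
    rw [← Units.val_mul _ C'.out, ← Units.val_mul C'.out, ← e3, inv_smul_smul₀ hζ]) k
  have h0 := key 0 (hT.1 k).2
  have h1 := key i hi
  rw [← h0, pow_zero, inv_pow, inv_eq_one] at h1
  exact orderOf_dvd_of_pow_eq_one h1

theorem inv_two_subsingleton (t t' : {t : T1 F 2 // Inv 2 t.1}) : t = t' := by
  have h : ∀ t : {t : T1 F 2 // Inv 2 t.1}, (t.1.1 0).natDegree = 2 ∧ t.1.1 1 = 1 ∧ (t.1.1 0).coeff 1 = 0 ∧
      (t.1.1 0).coeff 0 = 1 := fun t => by
    have hsum := t.1.2.1.2
    simp [Fin.sum_univ_two] at hsum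
    have hev : 2 ∣ (t.1.1 1).natDegree := t.2 1 _ (by
      rw [(t.1.2.1.1 1).1.coeff_natDegree]; exact one_ne_zero)
    have h11 : t.1.1 1 = 1 := eq_one_of_degree_zero (t.1.2.1.1 1).1 (by omega)
    rw [h11, natDegree_one] at hsum
    have hd : (t.1.1 0).natDegree = 2 := by omega
    refine ⟨hd, h11, ?_, ?_⟩
    · by_contra hne
      exact absurd (t.2 0 1 hne) (by norm_num)
    · have hdet := t.1.2.2
      simp [tdet, Fin.prod_univ_two, h11, mu, hd] at hdet
      exact hdet
  refine Subtype.ext (Subtype.ext (funext fun k => ?_))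
  obtain ⟨a1, a2, a3, a4⟩ := h t
  obtain ⟨b1, b2, b3, b4⟩ := h t'
  fin_cases k
  · ext i
    rcases i with _ | _ | _ | i
    · exact a4.trans b4.symm
    · exact a3.trans b3.symm
    · have h1 := (t.1.2.1.1 0).1.coeff_natDegree
      have h2 := (t'.1.2.1.1 0).1.coeff_natDegree
      rw [a1] at h1
      rw [b1] at h2
      exact h1.trans h2.symm
    · exact (coeff_eq_zero_of_natDegree_lt (a1.symm ▸ by omega)).trans
        (coeff_eq_zero_of_natDegree_lt (b1.symm ▸ by omega)).symm
  · exact a2.trans b2.symm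

/-- `d k(PSL n q) ≤ q ^ (n - 1) + 5 q ^ (n - 2)`. -/
theorem card_psl_le (n : ℕ) (hn : 2 ≤ n) :
    Nat.gcd n (Fintype.card F - 1) * Nat.card (ConjClasses (Matrix.ProjectiveSpecialLinearGroup (Fin n) F)) ≤
      Fintype.card F ^ (n - 1) + 5 * Fintype.card F ^ (n - 2) := by
  classical
  have : NeZero n := ⟨by omega⟩
  letI := Fintype.ofFinite (Subgroup.center (Matrix.SpecialLinearGroup (Fin n) F))
  set Q := Fintype.card F with hQ
  have hq : 2 ≤ Q := Fintype.one_lt_card
  have hZ : Nat.card (Subgroup.center (Matrix.SpecialLinearGroup (Fin n) F)) = Nat.gcd n (Q - 1) := by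
    rw [CfsgLib.Classical.card_center_SL, Fintype.card_fin, Nat.card_eq_fintype_card]
  rw [← hZ, card_classes_quotient_center, ← Finset.add_sum_erase _ _ (Finset.mem_univ 1)]
  have h1 : Nat.card {c : ConjClasses (Matrix.SpecialLinearGroup (Fin n) F) // centralMul 1 c = c} ≤
      Nat.card (ConjClasses (Matrix.SpecialLinearGroup (Fin n) F)) :=
    Nat.card_le_card_of_injective _ Subtype.val_injective
  choose ζ hζn hζ using fun z : Subgroup.center (Matrix.SpecialLinearGroup (Fin n) F) =>
    Matrix.SpecialLinearGroup.mem_center_iff.mp z.2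
  rw [Fintype.card_fin] at hζn
  have hord : ∀ z, z ≠ 1 → 2 ≤ orderOf (ζ z) ∧ ζ z ≠ 0 ∧ orderOf (ζ z) ∣ n := fun z hz => by
    have h0 : ζ z ≠ 0 := fun e => by
      have := hζn z
      rw [e, zero_pow (by omega)] at this
      exact zero_ne_one this
    refine ⟨?_, h0, orderOf_dvd_of_pow_eq_one (hζn z)⟩
    have hd := orderOf_dvd_of_pow_eq_one (hζn z)
    have hpos := Nat.pos_of_dvd_of_pos hd (NeZero.pos n)
    by_contra hlt
    refine hz (Subtype.ext (Subtype.ext ?_))
    rw [← hζ z, orderOf_eq_one_iff.mp (by omega : orderOf (ζ z) = 1)]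
    simp
  have hfix : ∀ z, z ≠ 1 → Nat.card {c : ConjClasses (Matrix.SpecialLinearGroup (Fin n) F) // centralMul z c = c} ≤
      Q ^ (n / orderOf (ζ z)) + (Q - 2) * Nat.card (Tail F n (n / orderOf (ζ z))) := fun z hz => by
    letI := Fintype.ofFinite {t : T1 F n // Inv (orderOf (ζ z)) t.1}
    refine (card_sl_subtype_le _ (fun t => Inv (orderOf (ζ z)) t.1) fun c hc t ht => ?_).trans
      (card_inv_le n (by have := (hord z hz).1; omega))
    rw [ht]
    exact inv_of_fixed (hord z hz).2.1 z (hζ z).symm c hc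
  have hcard : (Finset.univ.erase (1 : Subgroup.center (Matrix.SpecialLinearGroup (Fin n) F))).card ≤
      min n (Q - 1) - 1 := by
    rw [Finset.card_erase_of_mem (Finset.mem_univ _), Finset.card_univ, ← Nat.card_eq_fintype_card, hZ]
    have := Nat.le_of_dvd (NeZero.pos n) (Nat.gcd_dvd_left n (Q - 1))
    have := Nat.le_of_dvd (by omega : 0 < Q - 1) (Nat.gcd_dvd_right n (Q - 1))
    omega
  obtain ⟨hb2, hb3⟩ := card_sl_bounds (F := F) n hn
  rw [← hQ] at hb2 hb3
  set E := Finset.univ.erase (1 : Subgroup.center (Matrix.SpecialLinearGroup (Fin n) F))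
  set f := fun z => Nat.card {c : ConjClasses (Matrix.SpecialLinearGroup (Fin n) F) // centralMul z c = c}
  have hne : ∀ z ∈ E, z ≠ 1 := fun z hz => Finset.ne_of_mem_erase hz
  rcases (show n = 2 ∨ n = 3 ∨ n = 4 ∨ 5 ≤ n by omega) with rfl | rfl | rfl | hn5
  · have hs : ∑ z ∈ E, f z ≤ 1 := by
      refine (Finset.sum_le_card_nsmul E f 1 fun z hz => ?_).trans (by rw [smul_eq_mul, mul_one]; omega)
      have h2 : orderOf (ζ z) = 2 := by
        have := (hord z (hne z hz)).1
        have := Nat.le_of_dvd two_pos (hord z (hne z hz)).2.2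
        omega
      letI := Fintype.ofFinite {t : T1 F 2 // Inv 2 t.1}
      refine (card_sl_subtype_le _ (fun t => Inv 2 t.1) fun c hc t ht => ?_).trans ?_
      · have hi := inv_of_fixed (hord z (hne z hz)).2.1 z (hζ z).symm c hc
        rw [h2, ← ht] at hi
        exact hi
      · have hsub : Subsingleton {t : T1 F 2 // Inv 2 t.1} := ⟨inv_two_subsingleton⟩
        refine (Finset.sum_le_card_nsmul _ _ 1 fun t _ => le_of_eq (wt_eq_one t.1.1 0 rfl ?_)).trans ?_
        · have hsum := t.1.2.1.2
          simp [Fin.sum_univ_two] at hsum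
          have hev : 2 ∣ (t.1.1 1).natDegree := t.2 1 _ (by
            rw [(t.1.2.1.1 1).1.coeff_natDegree]; exact one_ne_zero)
          omega
        · rw [smul_eq_mul, mul_one, Finset.card_univ]
          exact Fintype.card_le_one_iff_subsingleton.mpr hsub
    have hb := hb2 rfl
    have hm : min 2 (Q - 1) * min 2 (Q - 1) ≤ 4 := Nat.mul_le_mul (min_le_left _ _) (min_le_left _ _)
    show _ + ∑ z ∈ E, f z ≤ Q ^ 1 + 5 * Q ^ 0
    rw [pow_one, pow_zero]
    omega
  · have hs : ∑ z ∈ E, f z ≤ 2 * Q := by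
      refine (Finset.sum_le_card_nsmul E f Q fun z hz => (hfix z (hne z hz)).trans ?_).trans (by
        rw [smul_eq_mul]; exact Nat.mul_le_mul_right _ (by omega))
      have h3 : orderOf (ζ z) = 3 := by
        rcases (Nat.dvd_prime Nat.prime_three).mp (hord z (hne z hz)).2.2 with h | h
        · have := (hord z (hne z hz)).1; omega
        · exact h
      rw [h3, show 3 / 3 = 1 from rfl, card_tail_one, mul_zero, add_zero, pow_one]
    have := hb3 le_rfl
    show _ + ∑ z ∈ E, f z ≤ Q ^ 2 + 5 * Q ^ 1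
    rw [show 3 - 1 = 2 from rfl, show 3 - 2 = 1 from rfl] at this
    rw [pow_one] at this ⊢
    omega
  · set D := Q ^ 2 + (Q - 2) * (Q - 1) with hD
    have hs : ∑ z ∈ E, f z ≤ 2 * Q ^ 2 := by
      have hle : ∀ z ∈ E, f z ≤ Q + (if ζ z = -1 then D - Q else 0) := fun z hz => by
        refine (hfix z (hne z hz)).trans ?_
        obtain ⟨hr2, -, hd⟩ := hord z (hne z hz)
        rcases (show orderOf (ζ z) = 2 ∨ orderOf (ζ z) = 4 by
          have := Nat.le_of_dvd (by norm_num) hd
          have : orderOf (ζ z) ≠ 3 := fun e => by rw [e] at hd; norm_num at hd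
          omega) with h | h
        · have hm1 : ζ z = -1 := by
            have e := pow_orderOf_eq_one (ζ z)
            rw [h, sq_eq_one_iff] at e
            exact e.resolve_left fun e1 => by rw [e1, orderOf_one] at h; omega
          have hT : Nat.card (Tail F 4 2) ≤ Q - 1 := (card_tail_small 4).1
          have hQ2 : Q ≤ Q ^ 2 := Nat.le_self_pow two_ne_zero Q
          have hmul := Nat.mul_le_mul_left (Q - 2) hT
          rw [h, show 4 / 2 = 2 from rfl, if_pos hm1]
          omega
        · rw [h, show 4 / 4 = 1 from rfl, card_tail_one, mul_zero, add_zero, pow_one]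
          exact Nat.le_add_right _ _
      refine (Finset.sum_le_sum hle).trans ?_
      rw [Finset.sum_add_distrib, Finset.sum_const, smul_eq_mul, ← Finset.sum_filter, Finset.sum_const, smul_eq_mul]
      have hc1 : (E.filter fun z => ζ z = -1).card ≤ 1 := Finset.card_le_one.mpr fun x hx y hy => by
        refine Subtype.ext (Subtype.ext ?_)
        rw [← hζ x, ← hζ y, (Finset.mem_filter.mp hx).2, (Finset.mem_filter.mp hy).2]
      have hE : E.card ≤ 3 := by omega
      have h3 := Nat.mul_le_mul_right Q hE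
      have h4 := Nat.mul_le_mul_right (D - Q) hc1
      obtain ⟨r, hr⟩ : ∃ r, Q = r + 2 := ⟨Q - 2, by omega⟩
      have hD2 : D + 2 * Q ≤ 2 * Q ^ 2 := by
        rw [hD, hr, Nat.add_sub_cancel, show r + 2 - 1 = r + 1 by omega]; nlinarith
      have : Q ≤ D := (Nat.le_self_pow two_ne_zero Q).trans (Nat.le_add_right _ _)
      omega
    have hb := hb3 (by norm_num)
    show _ + ∑ z ∈ E, f z ≤ Q ^ 3 + 5 * Q ^ 2
    rw [show 4 - 1 = 3 from rfl, show 4 - 2 = 2 from rfl] at hb
    omega
  · have hle : ∀ z ∈ E, f z ≤ 2 * Q ^ (n - 3) := fun z hz => by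
      refine (hfix z (hne z hz)).trans ?_
      set m := n / orderOf (ζ z) with hm
      have hmn : m ≤ n / 2 := Nat.div_le_div_left (hord z (hne z hz)).1 two_pos
      clear_value m
      clear hm
      rw [two_mul]
      refine Nat.add_le_add (Nat.pow_le_pow_right (by omega) (by omega)) ?_
      rcases (show m ≤ 3 ∨ 8 ≤ n by omega) with h3 | h8
      · have ha : Nat.card (Tail F n m) ≤ Q - 1 := by
          rcases (show m = 0 ∨ m = 1 ∨ m = 2 ∨ m = 3 by omega) with h | h | h | h <;> rw [h]
          · exact (card_tail_zero n).trans (by omega)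
          · rw [card_tail_one]; exact Nat.zero_le _
          · exact (card_tail_small n).1
          · exact (card_tail_small n).2
        calc (Q - 2) * Nat.card (Tail F n m) ≤ Q * Q :=
              Nat.mul_le_mul (Nat.sub_le _ _) (ha.trans (Nat.sub_le _ _))
          _ = Q ^ 2 := (sq Q).symm
          _ ≤ Q ^ (n - 3) := Nat.pow_le_pow_right (by omega) (by omega)
      · have ha : Nat.card (Tail F n m) ≤ Q ^ m := by
          rcases Nat.eq_zero_or_pos m with h | h
          · rw [h, pow_zero]; exact card_tail_zero n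
          have := finite_tuples (F := F) n m
          refine (Nat.card_le_card_of_injective (fun t : Tail F n m =>
            (⟨t.1, t.2.1⟩ : {u : Fin n → F[X] // IsTuple n m u})) fun a b e => Subtype.ext (congrArg Subtype.val e :)).trans ?_
          have h1 := (tuple_finite_and_bound (F := F) rfl n m).2.2 h
          rw [pow_add] at h1
          exact Nat.le_of_mul_le_mul_left (le_trans (Nat.le_add_right _ _) h1) (Nat.pow_pos Fintype.card_pos)
        calc (Q - 2) * Nat.card (Tail F n m) ≤ Q * Q ^ m := Nat.mul_le_mul (Nat.sub_le _ _) ha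
          _ = Q ^ (m + 1) := (pow_succ' Q m).symm
          _ ≤ Q ^ (n - 3) := Nat.pow_le_pow_right (by omega) (by omega)
    have hs : ∑ z ∈ E, f z ≤ 2 * Q ^ (n - 2) := by
      refine (Finset.sum_le_card_nsmul E f _ hle).trans ?_
      rw [smul_eq_mul, show n - 2 = n - 3 + 1 by omega, pow_succ]
      have := Nat.mul_le_mul_right (2 * Q ^ (n - 3)) (show E.card ≤ Q by omega)
      nlinarith
    have := hb3 (by omega)
    show _ + ∑ z ∈ E, f z ≤ _
    omega

end CfsgLib.Classical.SLClassBound
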