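import Cfsg.Agent.Lib.Classical.SLClassBound.Count

/-!
Tuples without elementary divisors of exponent one.
-/

set_option autoImplicit false
set_option linter.style.haveILetI false
set_option linter.unusedSectionVars false

namespace CfsgLib.Classical.SLClassBound

open Polynomial CfsgLib.Classical.GLClassBound

variable {F : Type*} [Field F]

/-- Remove the linear coefficient. -/
noncomputable def shrink (f : F[X]) : F[X] :=
  if f.natDegree ≤ 1 then 1 else C (f.coeff 0) + X * f.divX.divX

/-- The removed coefficient. -/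
noncomputable def extra (f : F[X]) : F := if f.natDegree ≤ 1 then f.coeff 0 else f.coeff 1

/-- Inverse of removing the linear coefficient. -/
noncomputable def grow (g : F[X]) (x : F) : F[X] :=
  if g.natDegree = 0 then X + C x else C (g.coeff 0) + X * (C x + X * g.divX)

theorem shrink_facts {f : F[X]} (hm : f.Monic) (hd : 1 ≤ f.natDegree) (h0 : f.coeff 0 ≠ 0) :
    ((shrink f).Monic ∧ (shrink f).coeff 0 ≠ 0) ∧ (shrink f).natDegree + 1 = f.natDegree ∧
      grow (shrink f) (extra f) = f := by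
  rcases (show f.natDegree = 1 ∨ 2 ≤ f.natDegree by omega) with h | h
  · have hs : shrink f = 1 := if_pos h.le
    rw [hs, extra, if_pos h.le, grow, natDegree_one, if_pos rfl, h]
    exact ⟨⟨monic_one, by simp⟩, rfl, (hm.eq_X_add_C h).symm⟩
  set g := C (f.coeff 0) + X * f.divX.divX with hg
  have hs : shrink f = g := if_neg (by omega)
  have hco : ∀ i, g.coeff (i + 1) = f.coeff (i + 2) := fun i => by
    rw [hg, coeff_add, coeff_X_mul, coeff_C, if_neg (Nat.succ_ne_zero i), zero_add, coeff_divX, coeff_divX]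
  have hg0 : g.coeff 0 = f.coeff 0 := by
    rw [hg, coeff_add, coeff_X_mul_zero, coeff_C_zero, add_zero]
  have htop : g.coeff (f.natDegree - 1) = 1 := by
    rw [show f.natDegree - 1 = (f.natDegree - 2) + 1 by omega, hco,
      show f.natDegree - 2 + 2 = f.natDegree by omega]
    exact hm
  have hle : g.natDegree ≤ f.natDegree - 1 := natDegree_le_iff_coeff_eq_zero.mpr fun i hi => by
    obtain ⟨j, rfl⟩ : ∃ j, i = j + 1 := ⟨i - 1, by omega⟩
    rw [hco]
    exact coeff_eq_zero_of_natDegree_lt (by omega)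
  have hdeg : g.natDegree = f.natDegree - 1 :=
    natDegree_eq_of_le_of_coeff_ne_zero hle (by rw [htop]; exact one_ne_zero)
  rw [hs, extra, if_neg (show ¬ f.natDegree ≤ 1 by omega), grow, if_neg (show g.natDegree ≠ 0 by omega), hg0]
  refine ⟨⟨?_, h0⟩, by omega, ?_⟩
  · show g.coeff g.natDegree = 1
    rw [hdeg, htop]
  · ext i
    rcases i with _ | _ | i
    · simp [coeff_X_mul_zero]
    · simp [coeff_X_mul, coeff_X_mul_zero, coeff_C]
    · simp only [coeff_add, coeff_X_mul, coeff_C, if_neg (Nat.succ_ne_zero _), zero_add, coeff_divX]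
      exact hco i

variable [Fintype F]

theorem tail_eq_one_of_small {E m : ℕ} (hm : m ≤ 1) (t : Tail F E m) (k : Fin E) : t.1 k = 1 := by
  rcases Nat.eq_zero_or_pos k.1 with hk | hk
  · exact t.2.2 k hk
  have h := Finset.single_le_sum (f := fun j : Fin E => (j.1 + 1) * (t.1 j).natDegree)
    (fun _ _ => Nat.zero_le _) (Finset.mem_univ k)
  rw [t.2.1.2] at h
  refine eq_one_of_degree_zero (t.2.1.1 k).1 ?_
  by_contra hne
  have := Nat.mul_le_mul (show 2 ≤ k.1 + 1 by omega) (Nat.one_le_iff_ne_zero.mpr hne)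
  omega

theorem card_tail_zero (E : ℕ) : Nat.card (Tail F E 0) ≤ 1 :=
  Finite.card_le_one_iff_subsingleton.mpr
    ⟨fun a b => Subtype.ext (funext fun k => by
      rw [tail_eq_one_of_small zero_le_one a k, tail_eq_one_of_small zero_le_one b k])⟩

theorem card_tail_one (E : ℕ) : Nat.card (Tail F E 1) = 0 := by
  have : IsEmpty (Tail F E 1) := ⟨fun t => by
    have h := t.2.1.2
    rw [Finset.sum_eq_zero fun k _ => by rw [tail_eq_one_of_small le_rfl t k, natDegree_one, mul_zero]] at h
    omega⟩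
  exact Nat.card_of_isEmpty

theorem exists_lowered {E m : ℕ} (t : Tail F E m) (hm : 1 ≤ m) :
    ∃ k : Fin E, 1 ≤ k.1 ∧ 1 ≤ (t.1 k).natDegree ∧ k.1 + 1 ≤ m ∧ IsTuple E (m - (k.1 + 1))
      (Function.update t.1 k (shrink (t.1 k))) := by
  classical
  obtain ⟨k, hk⟩ : ∃ k : Fin E, 1 ≤ (t.1 k).natDegree := by
    by_contra hne
    push Not at hne
    have h := t.2.1.2
    rw [Finset.sum_eq_zero fun k _ => by
      have := hne k
      rw [show (t.1 k).natDegree = 0 by omega, mul_zero]] at h
    omega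
  obtain ⟨hsm, hsd, -⟩ := shrink_facts (t.2.1.1 k).1 hk (t.2.1.1 k).2
  have hk1 : 1 ≤ k.1 := by
    by_contra h0
    rw [t.2.2 k (by omega), natDegree_one] at hk
    omega
  have h := t.2.1.2
  rw [← Finset.add_sum_erase _ _ (Finset.mem_univ k), ← hsd, mul_add, mul_one] at h
  refine ⟨k, hk1, hk, by omega, fun j => ?_, ?_⟩
  · rcases eq_or_ne j k with rfl | hj
    · rw [Function.update_self]; exact hsm
    · rw [Function.update_of_ne hj]; exact t.2.1.1 j
  · rw [← Finset.add_sum_erase _ _ (Finset.mem_univ k), Function.update_self,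
      Finset.sum_congr rfl (g := fun j : Fin E => (j.1 + 1) * (t.1 j).natDegree) fun j hj => by
        rw [Function.update_of_ne (Finset.ne_of_mem_erase hj)]]
    omega

/-- The recursion for tuples without exponent one. -/
theorem card_tail_le (E m : ℕ) (hm : 1 ≤ m) :
    Nat.card (Tail F E m) ≤ (Fintype.card F - 1) +
      Fintype.card F * ∑ j ∈ Finset.Icc 2 (m - 2), Nat.card (Tail F E j) := by
  classical
  choose k hk1 hk hkm hlow using fun t : Tail F E m => exists_lowered t hm
  have hlow' : ∀ t : Tail F E m, ∀ i : Fin E, i.1 = 0 → Function.update t.1 (k t) (shrink (t.1 (k t))) i = 1 :=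
    fun t i hi => by
      rw [Function.update_of_ne (by rintro rfl; have := hk1 t; omega)]
      exact t.2.2 i hi
  have hex : ∀ t : Tail F E m, m = (k t).1 + 1 ∨ (m - ((k t).1 + 1)) ∈ Finset.Icc 2 (m - 2) := fun t => by
    rcases (show m - ((k t).1 + 1) = 0 ∨ m - ((k t).1 + 1) = 1 ∨ 2 ≤ m - ((k t).1 + 1) by omega) with h | h | h
    · exact Or.inl (by have := hkm t; omega)
    · exfalso
      have h1 := card_tail_one (F := F) E
      rw [Nat.card_eq_zero] at h1
      rcases h1 with h1 | h1
      · exact h1.false ⟨_, h ▸ hlow t, hlow' t⟩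
      · exact not_finite (Tail F E 1)
    · exact Or.inr (Finset.mem_Icc.mpr ⟨h, by have := hk1 t; omega⟩)
  have hone : ∀ t : Tail F E m, m = (k t).1 + 1 → extra (t.1 (k t)) ≠ 0 ∧
      ∀ i, Function.update t.1 (k t) (shrink (t.1 (k t))) i = 1 := fun t h => by
    have h0 : ∀ i, Function.update t.1 (k t) (shrink (t.1 (k t))) i = 1 := fun i =>
      tail_eq_one_of_small (E := E) (m := m - ((k t).1 + 1)) (by omega) ⟨_, hlow t, hlow' t⟩ i
    refine ⟨?_, h0⟩
    have h1 := h0 (k t)
    rw [Function.update_self] at h1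
    obtain ⟨-, hsd, -⟩ := shrink_facts (t.2.1.1 (k t)).1 (hk t) (t.2.1.1 (k t)).2
    rw [h1, natDegree_one] at hsd
    rw [extra, if_pos (by omega)]
    exact (t.2.1.1 (k t)).2
  let f : Tail F E m → Fˣ ⊕ ((j : {j : ℕ // j ∈ Finset.Icc 2 (m - 2)}) × (Tail F E j.1 × F)) := fun t =>
    if h : m = (k t).1 + 1 then Sum.inl (Units.mk0 _ (hone t h).1)
    else Sum.inr ⟨⟨_, (hex t).resolve_left h⟩, ⟨⟨_, hlow t, hlow' t⟩, extra (t.1 (k t))⟩⟩
  have hrec : ∀ t t' : Tail F E m, k t = k t' → extra (t.1 (k t)) = extra (t'.1 (k t')) →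
      Function.update t.1 (k t) (shrink (t.1 (k t))) = Function.update t'.1 (k t') (shrink (t'.1 (k t'))) →
      t = t' := fun t t' hkk he hu => by
    refine Subtype.ext (funext fun i => ?_)
    rw [← hkk] at he hu
    rcases eq_or_ne i (k t) with rfl | hi
    · have h1 := congrFun hu (k t)
      rw [Function.update_self, Function.update_self] at h1
      obtain ⟨-, -, e1⟩ := shrink_facts (t.2.1.1 (k t)).1 (hk t) (t.2.1.1 (k t)).2
      obtain ⟨-, -, e2⟩ := shrink_facts (t'.2.1.1 (k t)).1 (by rw [hkk]; exact hk t') (t'.2.1.1 (k t)).2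
      rw [← e1, ← e2, h1, he]
    · have h1 := congrFun hu i
      rwa [Function.update_of_ne hi, Function.update_of_ne hi] at h1
  have hf : Function.Injective f := fun t t' e => by
    by_cases h : m = (k t).1 + 1 <;> by_cases h' : m = (k t').1 + 1
    · simp only [f, dif_pos h, dif_pos h', Sum.inl.injEq, Units.ext_iff, Units.val_mk0] at e
      exact hrec t t' (Fin.ext (by omega)) e (funext fun i => by rw [(hone t h).2 i, (hone t' h').2 i])
    · simp only [f, dif_pos h, dif_neg h', reduceCtorEq] at e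
    · simp only [f, dif_neg h, dif_pos h', reduceCtorEq] at e
    · simp only [f, dif_neg h, dif_neg h', Sum.inr.injEq] at e
      have hj := congrArg (fun z : (j : {j : ℕ // j ∈ Finset.Icc 2 (m - 2)}) × (Tail F E j.1 × F) => z.1.1) e
      have he := congrArg (fun z : (j : {j : ℕ // j ∈ Finset.Icc 2 (m - 2)}) × (Tail F E j.1 × F) => z.2.2) e
      have hu := congrArg (fun z : (j : {j : ℕ // j ∈ Finset.Icc 2 (m - 2)}) × (Tail F E j.1 × F) => z.2.1.1) e
      exact hrec t t' (Fin.ext (by have := hkm t; have := hkm t'; simp only at hj; omega)) he hu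
  refine (Nat.card_le_card_of_injective f hf).trans (le_of_eq ?_)
  rw [Nat.card_sum, Nat.card_eq_fintype_card (α := Fˣ), Fintype.card_units, Nat.card_sigma, Finset.mul_sum,
    ← Finset.sum_coe_sort (Finset.Icc 2 (m - 2))]
  exact congrArg _ (Finset.sum_congr rfl fun j _ => by
    rw [Nat.card_prod, Nat.card_eq_fintype_card (α := F), mul_comm])

theorem card_tail_small (E : ℕ) :
    Nat.card (Tail F E 2) ≤ Fintype.card F - 1 ∧ Nat.card (Tail F E 3) ≤ Fintype.card F - 1 := by
  have h2 := card_tail_le (F := F) E 2 (by norm_num)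
  have h3 := card_tail_le (F := F) E 3 (by norm_num)
  simp at h2 h3
  exact ⟨h2, h3⟩

/-- Few tuples without exponent one. -/
theorem card_tail_large (E : ℕ) : ∀ m, 5 ≤ m → Nat.card (Tail F E m) ≤ 2 * Fintype.card F ^ (m - 3) := by
  set Q := Fintype.card F with hQ
  have hq : 2 ≤ Q := Fintype.one_lt_card
  set a := fun j => Nat.card (Tail F E j) with ha
  have hrec : ∀ m, 1 ≤ m → a m ≤ (Q - 1) + Q * ∑ j ∈ Finset.Icc 2 (m - 2), a j := fun m hm => card_tail_le E m hm
  obtain ⟨a2, a3⟩ : a 2 ≤ Q - 1 ∧ a 3 ≤ Q - 1 := card_tail_small E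
  have a4 : a 4 ≤ (Q - 1) + Q * (Q - 1) :=
    (hrec 4 (by omega)).trans (by simpa using Nat.mul_le_mul_left Q a2)
  obtain ⟨r, hr⟩ : ∃ r, Q = r + 2 := ⟨Q - 2, by omega⟩
  have hm1 : Q - 1 = r + 1 := by omega
  rw [hm1, hr] at a4
  rw [hm1] at a2 a3
  have R5 : (Q - 1) + Q * ∑ j ∈ Finset.Icc 2 3, a j ≤ 2 * Q ^ 2 := by
    rw [Finset.sum_Icc_succ_top (by norm_num : 2 ≤ 2 + 1), Finset.Icc_self, Finset.sum_singleton, hm1, hr]
    nlinarith
  have R6 : (Q - 1) + Q * ∑ j ∈ Finset.Icc 2 4, a j ≤ 2 * Q ^ 3 := by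
    rw [Finset.sum_Icc_succ_top (by norm_num : 2 ≤ 3 + 1), Finset.sum_Icc_succ_top (by norm_num : 2 ≤ 2 + 1),
      Finset.Icc_self, Finset.sum_singleton, hm1, hr]
    nlinarith
  suffices H : ∀ m, 5 ≤ m → (Q - 1) + Q * ∑ j ∈ Finset.Icc 2 (m - 2), a j ≤ 2 * Q ^ (m - 3) from
    fun m hm => (hrec m (by omega)).trans (H m hm)
  intro m hm
  induction m using Nat.strong_induction_on with
  | h m ih =>
    rcases (show m = 5 ∨ m = 6 ∨ 7 ≤ m by omega) with rfl | rfl | hm7
    · exact R5
    · exact R6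
    · obtain ⟨n, rfl⟩ : ∃ n, m = n + 7 := ⟨m - 7, by omega⟩
      have h1 := ih (n + 6) (by omega) (by omega)
      have h2 := (hrec (n + 5) (by omega)).trans (ih (n + 5) (by omega) (by omega))
      rw [show n + 7 - 2 = n + 4 + 1 by omega, Finset.sum_Icc_succ_top (by omega : 2 ≤ n + 4 + 1), mul_add,
        ← add_assoc, show n + 4 + 1 = n + 5 by omega, show n + 7 - 3 = n + 4 by omega]
      rw [show n + 6 - 2 = n + 4 by omega, show n + 6 - 3 = n + 3 by omega] at h1
      rw [show n + 5 - 3 = n + 2 by omega] at h2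
      have h3 : Q * a (n + 5) ≤ Q * (2 * Q ^ (n + 2)) := Nat.mul_le_mul_left _ h2
      have h4 : 4 * Q ^ (n + 3) ≤ 2 * Q ^ (n + 4) := by
        rw [pow_succ Q (n + 3)]
        nlinarith [Nat.mul_le_mul_left (Q ^ (n + 3)) hq]
      have h5 : Q * (2 * Q ^ (n + 2)) = 2 * Q ^ (n + 3) := by ring
      omega

section first

variable (F) (n : ℕ) [NeZero n]

/-- The tuples with exponent one, counted by the degree. -/
theorem card_ta_le :
    Nat.card (TA F n) ≤ ∑ d ∈ Finset.range n, Fintype.card F ^ d * Nat.card (Tail F n (n - 1 - d)) := by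
  classical
  have hd : ∀ t : TA F n, (t.1.1 0).natDegree - 1 < n ∧
      IsTuple n (n - 1 - ((t.1.1 0).natDegree - 1)) (Function.update t.1.1 0 1) := fun t => by
    have h := t.1.2.1.2
    rw [← Finset.add_sum_erase _ _ (Finset.mem_univ (0 : Fin n))] at h
    simp only [Fin.val_zero, zero_add, one_mul] at h
    have := t.2
    refine ⟨by omega, fun j => ?_, ?_⟩
    · rcases eq_or_ne j 0 with rfl | hj
      · rw [Function.update_self]; exact ⟨monic_one, by simp⟩
      · rw [Function.update_of_ne hj]; exact t.1.2.1.1 j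
    · rw [← Finset.add_sum_erase _ _ (Finset.mem_univ (0 : Fin n)), Function.update_self,
        Finset.sum_congr rfl (g := fun j : Fin n => (j.1 + 1) * (t.1.1 j).natDegree) fun j hj => by
          rw [Function.update_of_ne (Finset.ne_of_mem_erase hj)], natDegree_one, mul_zero, zero_add]
      omega
  have hz : ∀ (t : TA F n) (i : Fin n), i.1 = 0 → Function.update t.1.1 0 1 i = 1 := fun t i hi => by
    obtain rfl : i = 0 := Fin.ext (by simpa using hi)
    rw [Function.update_self]
  let S := (d : Fin n) × ((Fin d.1 → F) × Tail F n (n - 1 - d.1))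
  let f : TA F n → S := fun t => ⟨⟨(t.1.1 0).natDegree - 1, (hd t).1⟩,
    ⟨fun i => (t.1.1 0).coeff (i.1 + 1), ⟨_, (hd t).2, hz t⟩⟩⟩
  have hf : Function.Injective f := by
    intro t t' e
    have hdd : (t.1.1 0).natDegree = (t'.1.1 0).natDegree := by
      have := congrArg (fun z : S => z.1.1) e
      have := t.2
      have := t'.2
      simp only [f] at *
      omega
    have hu : Function.update t.1.1 0 1 = Function.update t'.1.1 0 1 := congrArg (fun z : S => z.2.2.1) e
    have hco := congrArg (fun z : S => fun i : ℕ => if h : i < z.1.1 then z.2.1 ⟨i, h⟩ else 0) e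
    have hrest : ∀ k, k ≠ 0 → t.1.1 k = t'.1.1 k := fun k hk => by
      have := congrFun hu k
      rwa [Function.update_of_ne hk, Function.update_of_ne hk] at this
    have hmu : mu (t.1.1 0) = mu (t'.1.1 0) := by
      have e1 : tdet t.1.1 = mu (t.1.1 0) * ∏ k ∈ Finset.univ.erase (0 : Fin n), mu (t.1.1 k) ^ (k.1 + 1) := by
        rw [tdet, ← Finset.mul_prod_erase _ _ (Finset.mem_univ (0 : Fin n))]; simp
      have e2 : tdet t'.1.1 = mu (t'.1.1 0) * ∏ k ∈ Finset.univ.erase (0 : Fin n), mu (t'.1.1 k) ^ (k.1 + 1) := by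
        rw [tdet, ← Finset.mul_prod_erase _ _ (Finset.mem_univ (0 : Fin n))]; simp
      rw [t.1.2.2] at e1
      rw [t'.1.2.2, Finset.prod_congr rfl (g := fun k : Fin n => mu (t.1.1 k) ^ (k.1 + 1)) fun k hk => by
        rw [hrest k (Finset.ne_of_mem_erase hk)]] at e2
      exact mul_right_cancel₀ (fun h0 => by rw [h0, mul_zero] at e1; exact one_ne_zero e1) (e1.symm.trans e2)
    refine Subtype.ext (Subtype.ext (funext fun k => ?_))
    rcases eq_or_ne k 0 with rfl | hk
    · ext i
      rcases i with _ | i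
      · simp only [mu, hdd] at hmu
        exact mul_left_cancel₀ (pow_ne_zero _ (neg_ne_zero.mpr one_ne_zero)) hmu
      · rcases lt_or_ge i ((t.1.1 0).natDegree - 1) with hi | hi
        · have := congrFun hco i
          simpa [f, hi, hdd ▸ hi] using this
        · rcases (show i + 1 = (t.1.1 0).natDegree ∨ (t.1.1 0).natDegree < i + 1 by have := t.2; omega) with h | h
          · rw [h, (t.1.2.1.1 0).1.coeff_natDegree, hdd, (t'.1.2.1.1 0).1.coeff_natDegree]
          · rw [coeff_eq_zero_of_natDegree_lt h, coeff_eq_zero_of_natDegree_lt (hdd ▸ h)]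
    · exact hrest k hk
  refine (Nat.card_le_card_of_injective f hf).trans (le_of_eq ?_)
  rw [Nat.card_sigma, ← Fin.sum_univ_eq_sum_range]
  exact Finset.sum_congr rfl fun d _ => by
    rw [Nat.card_prod, Nat.card_fun, Nat.card_eq_fintype_card (α := F), Nat.card_eq_fintype_card (α := Fin d.1),
      Fintype.card_fin]

end first

end CfsgLib.Classical.SLClassBound
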