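import Cfsg.Agent.Lib.Classical.SLClassBound.Det

/-!
The elementary divisors of an endomorphism similar to a scalar multiple of itself.
-/

set_option autoImplicit false
set_option linter.style.haveILetI false
set_option maxHeartbeats 400000

namespace CfsgLib.Classical.SLClassBound

open Polynomial Module

variable {F : Type*} [Field F]

/-- The scaling `f (x) ↦ ζ ^ (- deg f) f (ζ x)`. -/
noncomputable def twistPoly (ζ : F) (f : F[X]) : F[X] := C (ζ ^ f.natDegree)⁻¹ * f.comp (C ζ * X)

theorem natDegree_comp_scale {ζ : F} (hζ : ζ ≠ 0) (f : F[X]) : (f.comp (C ζ * X)).natDegree = f.natDegree := by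
  rw [natDegree_comp, natDegree_C_mul_X _ hζ, mul_one]

theorem twistPoly_monic {ζ : F} (hζ : ζ ≠ 0) {f : F[X]} (hf : f.Monic) : (twistPoly ζ f).Monic := by
  have hne : (ζ ^ f.natDegree)⁻¹ ≠ 0 := inv_ne_zero (pow_ne_zero _ hζ)
  show (twistPoly ζ f).coeff (twistPoly ζ f).natDegree = 1
  rw [twistPoly, natDegree_C_mul hne, natDegree_comp_scale hζ, coeff_C_mul, comp_C_mul_X_coeff, hf.coeff_natDegree,
    one_mul, inv_mul_cancel₀ (pow_ne_zero _ hζ)]

theorem twistPoly_natDegree {ζ : F} (hζ : ζ ≠ 0) (f : F[X]) : (twistPoly ζ f).natDegree = f.natDegree := by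
  rw [twistPoly, natDegree_C_mul (inv_ne_zero (pow_ne_zero _ hζ)), natDegree_comp_scale hζ]

theorem twistPoly_irreducible {ζ : F} (hζ : ζ ≠ 0) {f : F[X]} (hf : Irreducible f) :
    Irreducible (twistPoly ζ f) := by
  haveI := invertibleOfNonzero hζ
  have h1 : Irreducible (f.comp (C ζ * X)) := by
    have := (MulEquiv.irreducible_iff (algEquivCMulXAddC ζ (0 : F)).toMulEquiv).mpr hf
    simpa [algEquivCMulXAddC_apply, ← comp_eq_aeval] using this
  rw [twistPoly, irreducible_isUnit_mul (isUnit_C.mpr (Ne.isUnit (inv_ne_zero (pow_ne_zero _ hζ))))]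
  exact h1

theorem twistPoly_injective {ζ : F} (hζ : ζ ≠ 0) : Function.Injective (twistPoly (F := F) ζ) := fun f g h => by
  have hd : f.natDegree = g.natDegree := by
    rw [← twistPoly_natDegree hζ f, h, twistPoly_natDegree hζ]
  ext i
  have h1 := congrArg (fun p : F[X] => p.coeff i) h
  simp only [twistPoly, hd, coeff_C_mul, comp_C_mul_X_coeff] at h1
  exact mul_right_cancel₀ (pow_ne_zero _ hζ) (mul_left_cancel₀ (inv_ne_zero (pow_ne_zero _ hζ)) h1)

theorem twistPoly_prod {ζ : F} (hζ : ζ ≠ 0) {α : Type*} (s : Finset α) (f : α → F[X]) (hf : ∀ i ∈ s, f i ≠ 0) :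
    twistPoly ζ (∏ i ∈ s, f i) = ∏ i ∈ s, twistPoly ζ (f i) := by
  simp only [twistPoly]
  rw [natDegree_prod _ _ hf, prod_comp, ← Finset.prod_pow_eq_pow_sum, ← Finset.prod_inv_distrib, map_prod,
    Finset.prod_mul_distrib]

/-- The kernel of `Q ^ j` on a primary component. -/
theorem finrank_ker_cyc {P Q : F[X]} (hP : P.Monic) (hPi : Irreducible P) (hQ : Q.Monic) (hQi : Irreducible Q)
    (e j : ℕ) [DecidableEq F[X]] :
    finrank F (LinearMap.ker (Algebra.lmul F (Cyc (P ^ e)) (Ideal.Quotient.mk _ (Q ^ j)))) =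
      if P = Q then min j e * P.natDegree else 0 := by
  have := (hP.pow e).finite_adjoinRoot
  have hfin : Module.Finite F (Cyc (P ^ e)) := this
  have hdim : ∀ k, finrank F (Cyc (P ^ k)) = k * P.natDegree := fun k => by
    show finrank F (F[X] ⧸ Ideal.span ({P ^ k} : Set F[X])) = _
    rw [finrank_quotient_span_eq_natDegree, natDegree_pow]
  split_ifs with h
  · subst h
    rcases le_total e j with hj | hj
    · have h0 : LinearMap.ker (Algebra.lmul F (Cyc (P ^ e)) (Ideal.Quotient.mk _ (P ^ j))) = ⊤ :=
        eq_top_iff.mpr fun x _ => by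
          rw [LinearMap.mem_ker, Algebra.coe_lmul_eq_mul, LinearMap.mul_apply',
            Ideal.Quotient.eq_zero_iff_mem.mpr (Ideal.mem_span_singleton.mpr (pow_dvd_pow P hj)), zero_mul]
      rw [h0, finrank_top, hdim, min_eq_right hj]
    · have hle : Ideal.span {P ^ j} ≤
          Submodule.comap (LinearMap.mulLeft F[X] (P ^ (e - j))) (Ideal.span {P ^ e}) := fun x hx => by
        rw [Submodule.mem_comap, LinearMap.mulLeft_apply, Ideal.mem_span_singleton,
          show P ^ e = P ^ (e - j) * P ^ j by rw [← pow_add, Nat.sub_add_cancel hj]]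
        exact mul_dvd_mul_left _ (Ideal.mem_span_singleton.mp hx)
      let φ : Cyc (P ^ j) →ₗ[F] Cyc (P ^ e) :=
        (Submodule.mapQ (Ideal.span {P ^ j}) (Ideal.span {P ^ e}) (LinearMap.mulLeft F[X] (P ^ (e - j))) hle).restrictScalars F
      have hφ : ∀ b, φ (Ideal.Quotient.mk _ b) = Ideal.Quotient.mk _ (P ^ (e - j) * b) := fun _ => rfl
      have hsplit : P ^ e = P ^ (e - j) * P ^ j := by rw [← pow_add, Nat.sub_add_cancel hj]
      have hinj : Function.Injective φ := by
        rw [injective_iff_map_eq_zero]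
        intro x hx
        obtain ⟨b, rfl⟩ := Ideal.Quotient.mk_surjective x
        rw [hφ, Ideal.Quotient.eq_zero_iff_mem, Ideal.mem_span_singleton, hsplit] at hx
        rw [Ideal.Quotient.eq_zero_iff_mem, Ideal.mem_span_singleton]
        exact (mul_dvd_mul_iff_left (pow_ne_zero _ hP.ne_zero)).mp hx
      have hker : LinearMap.ker (Algebra.lmul F (Cyc (P ^ e)) (Ideal.Quotient.mk _ (P ^ j))) = LinearMap.range φ := by
        ext x
        obtain ⟨b, rfl⟩ := Ideal.Quotient.mk_surjective x
        rw [LinearMap.mem_ker, Algebra.coe_lmul_eq_mul, LinearMap.mul_apply', ← map_mul,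
          Ideal.Quotient.eq_zero_iff_mem, Ideal.mem_span_singleton]
        constructor
        · intro hb
          rw [hsplit, mul_comm (P ^ j) b] at hb
          obtain ⟨c, rfl⟩ := (mul_dvd_mul_iff_right (pow_ne_zero j hP.ne_zero)).mp hb
          exact ⟨Ideal.Quotient.mk _ c, hφ c⟩
        · rintro ⟨y, hy⟩
          obtain ⟨c, rfl⟩ := Ideal.Quotient.mk_surjective y
          rw [hφ, Ideal.Quotient.mk_eq_mk_iff_sub_mem, Ideal.mem_span_singleton] at hy
          have h1 : P ^ e ∣ P ^ j * (P ^ (e - j) * c) := ⟨c, by rw [hsplit]; ring⟩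
          have h2 := dvd_mul_of_dvd_right hy (P ^ j)
          rw [mul_sub] at h2
          exact (dvd_sub_right h1).mp h2
      rw [hker, LinearMap.finrank_range_of_inj hinj, hdim, min_eq_left hj]
  · have hcop : IsCoprime (Q ^ j) (P ^ e) :=
      ((hQi.coprime_iff_not_dvd).mpr fun hd => h
        (eq_of_monic_of_associated hP hQ (hQi.associated_of_dvd hPi hd).symm)).pow
    obtain ⟨u, v, huv⟩ := hcop
    have h0 : LinearMap.ker (Algebra.lmul F (Cyc (P ^ e)) (Ideal.Quotient.mk _ (Q ^ j))) = ⊥ := by
      rw [Submodule.eq_bot_iff]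
      intro x hx
      rw [LinearMap.mem_ker, Algebra.coe_lmul_eq_mul, LinearMap.mul_apply'] at hx
      have h1 := congrArg (Ideal.Quotient.mk (Ideal.span {P ^ e})) huv
      rw [map_add, map_mul, map_mul, Ideal.Quotient.eq_zero_iff_mem.mpr (Ideal.mem_span_singleton_self (P ^ e)),
        mul_zero, add_zero, map_one] at h1
      rw [← one_mul x, ← h1, mul_assoc, hx, mul_zero]
    rw [h0, finrank_bot]

/-- The kernel of a componentwise multiplication. -/
theorem finrank_ker_diag {ι : Type} [Fintype ι] {Q : ι → F[X]} (hQ : ∀ i, (Q i).Monic) (a : ι → F[X]) :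
    finrank F (LinearMap.ker (diag Q a)) =
      ∑ i, finrank F (LinearMap.ker (Algebra.lmul F (Cyc (Q i)) (Ideal.Quotient.mk _ (a i)))) := by
  classical
  have : ∀ i, Module.Finite F (Cyc (Q i)) := fun i => (hQ i).finite_adjoinRoot
  let κ := fun i => LinearMap.ker (Algebra.lmul F (Cyc (Q i)) (Ideal.Quotient.mk _ (a i)))
  let eqv : LinearMap.ker (diag Q a) ≃ₗ[F] ∀ i, κ i :=
    { toFun := fun x i => ⟨x.1 i, by
        have := congrFun (LinearMap.mem_ker.mp x.2) i
        rw [diag_apply] at this
        exact LinearMap.mem_ker.mpr (by simpa using this)⟩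
      invFun := fun y => ⟨fun i => (y i).1, LinearMap.mem_ker.mpr (funext fun i => by
        rw [diag_apply]
        simpa [κ] using LinearMap.mem_ker.mp (y i).2)⟩
      map_add' := fun x y => rfl
      map_smul' := fun c x => rfl
      left_inv := fun x => rfl
      right_inv := fun y => rfl }
  have : ∀ i, Module.Free F (κ i) := fun i => Module.Free.of_divisionRing F (κ i)
  rw [eqv.finrank_eq, Module.finrank_pi_fintype]

/-- Polynomials in an endomorphism in a diagonalizing basis. -/
theorem aeval_intertwine {V : Type*} [AddCommGroup V] [Module F V] {ι : Type} {Qs : ι → F[X]} [Fintype ι]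
    (f : Module.End F V) (E : V ≃ₗ[F] ∀ i, Cyc (Qs i))
    (hE : ∀ v, E (f v) = diag Qs (fun _ => X) (E v)) (p : F[X]) :
    ∀ v, E (aeval f p v) = diag Qs (fun _ => p) (E v) := by
  classical
  induction p using Polynomial.induction_on' with
  | add p q hp hq =>
    intro v
    rw [map_add, LinearMap.add_apply, map_add, hp, hq]
    funext i
    simp [diag_apply, add_mul]
  | monomial n c =>
    induction n with
    | zero =>
      intro v
      rw [monomial_zero_left, aeval_C, Module.algebraMap_end_apply, map_smul]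
      funext i
      rw [diag_apply]
      exact Algebra.smul_def c (E v i)
    | succ n ih =>
      intro v
      rw [← monomial_mul_X, map_mul, aeval_X, Module.End.mul_apply, ih, hE, ← Module.End.mul_apply, ← map_mul]
      rfl

/-- A degree-preserving change of the irreducible polynomials that keeps all nullities fixes the tuple. -/
theorem tuple_invariant {V : Type*} [AddCommGroup V] [Module F V] [FiniteDimensional F V] {ι : Type} [Fintype ι]
    {P : ι → F[X]} {e : ι → ℕ} (hP : ∀ i, (P i).Monic ∧ Irreducible (P i))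
    (f : Module.End F V) (E : V ≃ₗ[F] ∀ i, Cyc (P i ^ e i))
    (hE : ∀ v, E (f v) = diag (fun i => P i ^ e i) (fun _ => X) (E v))
    (T : F[X] → F[X])
    (hT : ∀ i, (T (P i)).Monic ∧ Irreducible (T (P i)) ∧ (T (P i)).natDegree = (P i).natDegree)
    (hinj : ∀ i i', T (P i) = T (P i') → P i = P i')
    (hrank : ∀ i j, finrank F (LinearMap.ker (aeval f (P i ^ j))) =
      finrank F (LinearMap.ker (aeval f (T (P i) ^ j)))) {k : ℕ} (hk : 1 ≤ k) :
    ∏ i ∈ Finset.univ.filter (fun i => e i = k), T (P i) =
      ∏ i ∈ Finset.univ.filter (fun i => e i = k), P i := by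
  classical
  have hQ : ∀ i, ((fun i => P i ^ e i) i).Monic := fun i => (hP i).1.pow _
  have hker : ∀ p : F[X], finrank F (LinearMap.ker (aeval f p)) =
      ∑ i, finrank F (LinearMap.ker (Algebra.lmul F (Cyc (P i ^ e i)) (Ideal.Quotient.mk _ p))) := fun p => by
    rw [← finrank_ker_diag hQ (fun _ => p)]
    refine LinearEquiv.finrank_eq (E.ofSubmodules _ _ ?_)
    ext y
    obtain ⟨v, rfl⟩ := E.surjective y
    rw [Submodule.mem_map_equiv, E.symm_apply_apply, LinearMap.mem_ker, LinearMap.mem_ker,
      ← aeval_intertwine f E hE, LinearEquiv.map_eq_zero_iff]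
  have hD : ∀ (R : F[X]), R.Monic → Irreducible R → ∀ j, finrank F (LinearMap.ker (aeval f (R ^ j))) =
      (∑ i, if P i = R then min j (e i) else 0) * R.natDegree := fun R hR hRi j => by
    rw [hker, Finset.sum_mul]
    refine Finset.sum_congr rfl fun i _ => ?_
    rw [finrank_ker_cyc (hP i).1 (hP i).2 hR hRi]
    split_ifs with h
    · rw [h]
    · rw [zero_mul]
  have hmin : ∀ i₀ j, (∑ i, if P i = P i₀ then min j (e i) else 0) =
      ∑ i, if P i = T (P i₀) then min j (e i) else 0 := fun i₀ j => by
    have h := hrank i₀ j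
    rw [hD _ (hP i₀).1 (hP i₀).2, hD _ (hT i₀).1 (hT i₀).2.1, (hT i₀).2.2] at h
    exact Nat.eq_of_mul_eq_mul_right (hP i₀).2.natDegree_pos h
  have hcnt : ∀ i₀, (Finset.univ.filter fun i => e i = k ∧ P i = P i₀).card =
        (Finset.univ.filter fun i => e i = k ∧ P i = T (P i₀)).card := fun i₀ => by
    have key : ∀ R : F[X], (Finset.univ.filter fun i => e i = k ∧ P i = R).card +
        (∑ i, if P i = R then min (k - 1) (e i) else 0) + (∑ i, if P i = R then min (k + 1) (e i) else 0) =
        2 * ∑ i, if P i = R then min k (e i) else 0 := fun R => by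
      rw [Finset.card_filter, ← Finset.sum_add_distrib, ← Finset.sum_add_distrib, Finset.mul_sum]
      refine Finset.sum_congr rfl fun i _ => ?_
      by_cases h : P i = R
      · simp only [h, and_true, if_true]
        split_ifs <;> omega
      · simp [h]
    have h1 := key (P i₀)
    have h2 := key (T (P i₀))
    rw [hmin i₀, hmin i₀, hmin i₀] at h1
    omega
  set s := Finset.univ.filter fun i => e i = k
  have hc : ∀ (g : ι → F[X]) (a : F[X]), Multiset.count a (s.val.map g) =
      (Finset.univ.filter fun i => e i = k ∧ g i = a).card := fun g a => by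
    rw [Multiset.count_map, Finset.card_def, Finset.filter_val, Finset.filter_val, Multiset.filter_filter]
    congr 1
    exact Multiset.filter_congr fun i _ => by
      constructor <;> rintro ⟨h1, h2⟩ <;> constructor <;> first | exact h1 | exact h1.symm | exact h2 | exact h2.symm
  have hmap : (s.val.map fun i => T (P i)) = s.val.map P := by
    refine Multiset.eq_of_le_of_card_le (Multiset.le_iff_count.mpr fun a => ?_) (by simp)
    rw [hc, hc]
    by_cases h : ∃ i₀ ∈ s, T (P i₀) = a
    · obtain ⟨i₀, -, rfl⟩ := h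
      rw [← hcnt i₀]
      exact le_of_eq (congrArg Finset.card (Finset.filter_congr fun i _ =>
        and_congr_right fun _ => ⟨hinj i i₀, congrArg T⟩))
    · rw [Finset.card_eq_zero.mpr (Finset.filter_eq_empty_iff.mpr fun i _ hi =>
        h ⟨i, Finset.mem_filter.mpr ⟨Finset.mem_univ _, hi.1⟩, hi.2⟩)]
      exact Nat.zero_le _
  show (s.val.map fun i => T (P i)).prod = (s.val.map P).prod
  rw [hmap]

/-- The elementary divisors of an endomorphism conjugate to its multiple by `ζ` are stable under scaling. -/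
theorem twist_invariant {V : Type*} [AddCommGroup V] [Module F V] [FiniteDimensional F V] {ι : Type} [Fintype ι]
    {P : ι → F[X]} {e : ι → ℕ} (hP : ∀ i, (P i).Monic ∧ Irreducible (P i))
    (f : Module.End F V) (E : V ≃ₗ[F] ∀ i, Cyc (P i ^ e i))
    (hE : ∀ v, E (f v) = diag (fun i => P i ^ e i) (fun _ => X) (E v))
    {ζ : F} (hζ : ζ ≠ 0) (W : V ≃ₗ[F] V) (hW : ∀ v, W (f v) = ζ • f (W v)) {k : ℕ} (hk : 1 ≤ k) :
    twistPoly ζ (∏ i ∈ Finset.univ.filter (fun i => e i = k), P i) =
      ∏ i ∈ Finset.univ.filter (fun i => e i = k), P i := by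
  classical
  have htw : ∀ p : F[X], finrank F (LinearMap.ker (aeval f p)) =
      finrank F (LinearMap.ker (aeval f (p.comp (C ζ * X)))) := fun p => by
    have hc : ∀ v, W (aeval f p v) = aeval f (p.comp (C ζ * X)) (W v) := by
      rw [aeval_comp, map_mul, aeval_C, aeval_X, ← Algebra.smul_def]
      induction p using Polynomial.induction_on' with
      | add p q hp hq => intro v; simp [map_add, hp, hq]
      | monomial n c =>
        induction n with
        | zero => intro v; simp [monomial_zero_left, Module.algebraMap_end_apply]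
        | succ n ih =>
          intro v
          rw [← monomial_mul_X, map_mul, map_mul, aeval_X, aeval_X, Module.End.mul_apply, Module.End.mul_apply, ih, hW]
          rfl
    refine LinearEquiv.finrank_eq (W.ofSubmodules _ _ ?_)
    ext y
    obtain ⟨v, rfl⟩ := W.surjective y
    rw [Submodule.mem_map_equiv, W.symm_apply_apply, LinearMap.mem_ker, LinearMap.mem_ker, ← hc,
      LinearEquiv.map_eq_zero_iff]
  rw [twistPoly_prod hζ _ _ fun i _ => (hP i).1.ne_zero]
  refine tuple_invariant hP f E hE (twistPoly ζ)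
    (fun i => ⟨twistPoly_monic hζ (hP i).1, twistPoly_irreducible hζ (hP i).2, twistPoly_natDegree hζ _⟩)
    (fun i i' h => twistPoly_injective hζ h) (fun i j => ?_) hk
  have hcomp : (P i ^ j).comp (C ζ * X) = C ((ζ ^ (P i).natDegree) ^ j) * twistPoly ζ (P i) ^ j := by
    rw [twistPoly, mul_pow, ← map_pow, ← mul_assoc, ← map_mul, inv_pow,
      mul_inv_cancel₀ (pow_ne_zero _ (pow_ne_zero _ hζ)), map_one, one_mul, pow_comp]
  rw [htw, hcomp, map_mul, aeval_C, ← Algebra.smul_def, LinearMap.ker_smul _ _ (pow_ne_zero _ (pow_ne_zero _ hζ))]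

end CfsgLib.Classical.SLClassBound
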